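import Mathlib
import Cfsg.Agent.LargeExtra.Perp
import Cfsg.Agent.S0215
import Cfsg.Agent.Lib.KleinGen
import Cfsg.Agent.Lib.ClosingTI
import Cfsg.Agent.TwoFusion.Isolated
import Cfsg.Agent.LargeExtra.TwoCentral
import Cfsg.Agent.LargeExtra.Pres
import Cfsg.Agent.LargeExtra.Base
import Cfsg.Agent.FastGrp
import Cfsg.Agent.Prune
set_option linter.all false

section
prune_inst 0x7ffcfffbeffcbfffffff7e7fa7fdcffc3b959ffff6dff94bffe9ebfffbff23e70be5fbaf0de498fecef6e03410b87853fbfffeffe36fdc7ffffd5ff45ffbee5ff7ffbd2d51d6b8341ffc6ffffbf277ae7f3fffffffffffffffffffffffffffffffbfffffffff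

-- part: TrialityTwo/Rel
section
set_option linter.all false

/-!
# Relations for `³D₄(2)` (helper814)

`Q` : nine involutions `a_∞ = a`, `a_0 = n a n`, `a_{μ^i} = c i` (`i < 7`), pairwise with commutator `z`, product `z`;
`L₂(8) = ⟨d, e, n⟩` permutes them as on the projective line over `F₈`: `e : u ↦ u + 1`, `n : u ↦ 1/u`,
`x ↦ d⁻¹ x d : μ^i ↦ μ^(i+1)`, `μ³ = μ + 1`.
`t` commutes with `d` and swaps `z` and `a`.
-/

set_option autoImplicit false

namespace Cfsg.Agent.TrialityTwo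

variable {G : Type*} [Group G]

/-- `a_0` -/
def bb (n a : G) : G := n * a * n

/-- the central involution of `Q` -/
def zc (n a : G) : G := a * bb n a * a * bb n a

/-- `a_{μ^i}` -/
def cc (d e n a : G) (i : ℕ) : G := (d ^ i)⁻¹ * (e * bb n a * e) * d ^ i

/-- Relations of `L₂(8)` on `d, e, n`. -/
structure RelL (d e n : G) : Prop where
  d7 : d ^ 7 = 1
  e2 : e * e = 1
  n2 : n * n = 1
  e013 : e * (d⁻¹ * e * d) * ((d ^ 3)⁻¹ * e * d ^ 3) = 1
  ecomm : e * (d⁻¹ * e * d) = (d⁻¹ * e * d) * e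
  nd : (n * d) * (n * d) = 1
  ne : (n * e) ^ 3 = 1

/-- Relations of `2^(1+8) : L₂(8)` on `d, e, n, a`. -/
structure RelC (d e n a : G) : Prop extends RelL d e n where
  a2 : a * a = 1
  ad : a * d = d * a
  ae : a * e = e * a
  z2 : zc n a * zc n a = 1
  ze : zc n a * e = e * zc n a
  prod : a * bb n a * cc d e n a 0 * cc d e n a 1 * cc d e n a 2 * cc d e n a 3 * cc d e n a 4 *
    cc d e n a 5 * cc d e n a 6 = zc n a

/-- The relations involving `t`. -/
structure RelT (d e n a t : G) : Prop extends RelC d e n a where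
  t2 : t * t = 1
  td : t * d = d * t
  tz : t * zc n a * t = a
  bt : (bb n a * t) ^ 3 = 1
  te : t * e * t = cc d e n a 0 * cc d e n a 1 * cc d e n a 2 * cc d e n a 4 * zc n a
  tc : t * (cc d e n a 0 * cc d e n a 1 * cc d e n a 2 * cc d e n a 5) =
    (cc d e n a 0 * cc d e n a 1 * cc d e n a 2 * cc d e n a 5) * t

/-- All relations of `³D₄(2)`. -/
structure Rel (d e n a t : G) : Prop extends RelT d e n a t where
  tn : (t * (n * t * n)) ^ 3 = 1

end Cfsg.Agent.TrialityTwo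
end

-- part: TypeD4Two/NinePair_mg
section
set_option linter.all false
open scoped Cfsg.Agent.FastGrp

-- part: TypeD4Two/NineV
section
/-!
# Nine pairwise non-orthogonal vectors: the action of `C_G(z)` on `Q/⟨z⟩` for `³D₄(2)` (helper186)

`Cfg b q H X D a`: `V` of order `2 ^ 8` with a nondegenerate alternating form `b`, `H ≤ GL(V)`, `X ≤ H`
elementary abelian fixing `a`, `D` totally singular, such that the orbit `O = H a` is pairwise
non-orthogonal. Then `|O| = 9`, `|X| = 8`, `|D| = 16`, `X` is regular on `O - {a}`.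

* `fix_two`: an involution of `H` fixes at most one element of `O`; `mem_X_of_sq`: the involutions of `H` fixing
  `a` lie in `X`; `mem_O_of_fixed`: an elementary abelian subgroup of order `≥ 8` of `H` fixes no vectors
  outside `O`; `fixed_X`: `C_V(X) = {0, a}`; `fixed_x`: `C_V(x) = [V, x]`;
* `uniq`: `D_i ∩ D_j = 0`; `exists_D`: the `D_i` cover the singular vectors; `exists_perp`.
-/

set_option autoImplicit false

namespace Cfsg.Agent.TypeD4Two.NineV

variable {V : Type*} [AddCommGroup V] [Module (ZMod 2) V]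

structure Cfg (b : LinearMap.BilinForm (ZMod 2) V) (q : V → ZMod 2)
    (H X : Subgroup (V ≃ₗ[ZMod 2] V)) (D : Submodule (ZMod 2) V) (a : V) : Prop where
  card : Nat.card V = 2 ^ 8
  nondeg : ∀ v, (∀ w, b v w = 0) → v = 0
  symm : ∀ v w, b v w = b w v
  self : ∀ v, b v v = 0
  isom : ∀ f ∈ H, ∀ v w, b (f v) (f w) = b v w
  q_add : ∀ v w, q (v + w) = q v + q w + b v w
  q_isom : ∀ f ∈ H, ∀ v, q (f v) = q v
  XH : X ≤ H
  Xa : ∀ f ∈ X, f a = a
  Xsq : ∀ f ∈ X, f * f = 1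
  Xcomm : ∀ f ∈ X, ∀ g ∈ X, f * g = g * f
  Xnormal : ∀ f ∈ H, f a = a → ∀ g ∈ X, f * g * f⁻¹ ∈ X
  XD : ∀ f ∈ X, ∀ v ∈ D, f v = v ∨ f v = v + a
  Dinv : ∀ f ∈ H, f a = a → ∀ v ∈ D, f v ∈ D
  exX : ∀ φ : V →ₗ[ZMod 2] ZMod 2, φ a = 0 → ∃ f ∈ X, ∀ v ∈ D, f v = v + φ v • a
  a_mem : a ∈ D
  a_ne : a ≠ 0
  D_iso : ∀ v ∈ D, ∀ w ∈ D, b v w = 0
  D_q : ∀ v ∈ D, q v = 0
  cardXD : Nat.card X * Nat.card D * 2 = Nat.card V
  nn : ∀ f ∈ H, b a (f a) = 0 → f a = a
  semi : ∀ f ∈ X, ∀ g ∈ H, g a ≠ a → f (g a) = g a → f = 1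
  mv : ∃ f ∈ H, f a ≠ a

theorem zm (c : ZMod 2) : c = 0 ∨ c = 1 := by revert c; decide

theorem zm_ne {c : ZMod 2} (h : c ≠ 0) : c = 1 := by revert c; decide

theorem add_self (v : V) : v + v = 0 := by
  have h : (2 : ZMod 2) • v = v + v := two_smul (ZMod 2) v
  have h2 : (2 : ZMod 2) = 0 := by decide
  rw [h2, zero_smul] at h
  exact h.symm

theorem eq_of_add {v w : V} (h : v + w = 0) : v = w := by
  have := add_self w
  calc v = v + (w + w) := by rw [this, add_zero]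
    _ = (v + w) + w := by rw [add_assoc]
    _ = w := by rw [h, zero_add]

/-- a family of pairwise non-orthogonal vectors of even cardinality is independent -/
theorem indep {b : LinearMap.BilinForm (ZMod 2) V} (hself : ∀ v, b v v = 0) {ι : Type*} [Fintype ι]
    (he : Even (Fintype.card ι)) (w : ι → V) (hw : ∀ i j, i ≠ j → b (w i) (w j) = 1) :
    LinearIndependent (ZMod 2) w := by
  classical
  rw [Fintype.linearIndependent_iff]
  intro c hc
  have key : ∀ j, c j = ∑ i, c i := by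
    intro j
    have h1 : b (∑ i, c i • w i) (w j) = 0 := by rw [hc, map_zero, LinearMap.zero_apply]
    rw [map_sum, LinearMap.sum_apply] at h1
    have h2 : ∀ i, (b (c i • w i)) (w j) = c i * (if i = j then 0 else 1) := by
      intro i
      rw [map_smul, LinearMap.smul_apply, smul_eq_mul]
      split_ifs with h3
      · rw [h3, hself]
      · rw [hw i j h3]
    simp only [h2] at h1
    have h3 : ∑ i, c i = c j + ∑ i, c i * (if i = j then 0 else 1) := by
      have h4 : ∀ i, c i = c i * (if i = j then 1 else 0) + c i * (if i = j then 0 else 1) := by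
        intro i
        split_ifs <;> simp
      calc ∑ i, c i = ∑ i, (c i * (if i = j then 1 else 0) + c i * (if i = j then 0 else 1)) :=
            Finset.sum_congr rfl fun i _ => h4 i
        _ = _ := by
            rw [Finset.sum_add_distrib]
            congr 1
            simp only [_root_.mul_ite, _root_.mul_one, _root_.MulZeroClass.mul_zero, _root_.Finset.sum_ite_eq', _root_.Finset.mem_univ, ↓ _root_.reduceIte]
    rw [h3, h1, add_zero]
  have h5 : ∑ i, c i = 0 := by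
    have h6 : ∑ i, c i = ∑ _i : ι, (∑ i, c i) := Finset.sum_congr rfl fun i _ => key i
    rw [Finset.sum_const, Finset.card_univ] at h6
    obtain ⟨m, hm⟩ := he
    rw [hm, add_smul, add_self] at h6
    exact h6
  intro i
  rw [key i, h5]

namespace Cfg

variable {b : LinearMap.BilinForm (ZMod 2) V} {q : V → ZMod 2}
  {H X : Subgroup (V ≃ₗ[ZMod 2] V)} {D : Submodule (ZMod 2) V} {a : V}

theorem finite (h : Cfg b q H X D a) : Finite V :=
  Nat.finite_of_card_ne_zero (by rw [h.card]; norm_num)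

theorem finrank (h : Cfg b q H X D a) : Module.finrank (ZMod 2) V = 8 := by
  have := h.finite
  have : Module.Finite (ZMod 2) V := Module.Finite.of_finite
  have h1 := Module.natCard_eq_pow_finrank (K := ZMod 2) (V := V)
  rw [h.card, Nat.card_zmod] at h1
  exact (Nat.pow_right_injective (le_refl 2) h1).symm

theorem nondegenerate (h : Cfg b q H X D a) : b.Nondegenerate := by
  refine ⟨fun v hv => h.nondeg v hv, fun v hv => h.nondeg v fun w => ?_⟩
  rw [h.symm]; exact hv w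

theorem isRefl (h : Cfg b q H X D a) : b.IsRefl := fun v w hvw => by rw [h.symm]; exact hvw

theorem card_D_le (h : Cfg b q H X D a) : Nat.card D ≤ 16 := by
  have := h.finite
  have h1 := Cfsg.Agent.LargeExtra.Perp.card_orthogonal h.nondegenerate h.isRefl D
  have hle : D ≤ b.orthogonal D := fun v hv =>
    LinearMap.BilinForm.mem_orthogonal_iff.2 fun w hw => h.D_iso w hw v hv
  have h2 : Nat.card D ≤ Nat.card (b.orthogonal D) :=
    Nat.card_le_card_of_injective _ (Submodule.inclusion_injective hle)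
  have h3 : Nat.card D * Nat.card D ≤ 2 ^ 8 := by
    rw [← h.card, ← h1]; exact Nat.mul_le_mul_left _ h2
  by_contra hcon
  nlinarith only [h3, hcon]

theorem card_X_ge (h : Cfg b q H X D a) : 8 ≤ Nat.card X := by
  have h1 := h.cardXD
  have h2 := h.card_D_le
  rw [h.card] at h1
  by_contra hcon
  have h3 : Nat.card X ≤ 7 := by omega
  have : Nat.card X * Nat.card D * 2 ≤ 7 * 16 * 2 := by
    apply Nat.mul_le_mul_right
    exact Nat.mul_le_mul h3 h2
  omega

/-- the orbit -/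
def O (H : Subgroup (V ≃ₗ[ZMod 2] V)) (a : V) : Set V := {v | ∃ f ∈ H, f a = v}

theorem a_mem_O : a ∈ O H a := ⟨1, H.one_mem, rfl⟩

theorem map_mem_O {f : V ≃ₗ[ZMod 2] V} (hf : f ∈ H) {v : V} (hv : v ∈ O H a) : f v ∈ O H a := by
  obtain ⟨g, hg, rfl⟩ := hv
  exact ⟨f * g, H.mul_mem hf hg, rfl⟩

theorem b_O (h : Cfg b q H X D a) {v w : V} (hv : v ∈ O H a) (hw : w ∈ O H a) (hne : v ≠ w) :
    b v w = 1 := by
  obtain ⟨f, hf, rfl⟩ := hv
  obtain ⟨g, hg, rfl⟩ := hw
  apply zm_ne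
  intro h1
  apply hne
  have h2 : b a ((f⁻¹ * g) a) = 0 := by
    rw [← h.isom f hf]
    have : f ((f⁻¹ * g) a) = g a := by
      show (f * (f⁻¹ * g)) a = g a
      rw [mul_inv_cancel_left]
    rw [this, h1]
  have h3 := h.nn _ (H.mul_mem (H.inv_mem hf) hg) h2
  have h4 : f ((f⁻¹ * g) a) = g a := by
    show (f * (f⁻¹ * g)) a = g a
    rw [mul_inv_cancel_left]
  rw [h3] at h4
  exact h4

theorem card_O_le (h : Cfg b q H X D a) : (O H a).ncard ≤ 9 := by
  classical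
  have := h.finite
  have hfin : (O H a).Finite := Set.toFinite _
  by_contra hcon
  push Not at hcon
  have h1 : 10 ≤ hfin.toFinset.card := by
    rw [← Set.ncard_eq_toFinset_card _ hfin]; omega
  obtain ⟨T, hT, hT10⟩ := Finset.exists_subset_card_eq h1
  have hTO : ∀ v ∈ T, v ∈ O H a := fun v hv => hfin.mem_toFinset.1 (hT hv)
  have h2 : LinearIndependent (ZMod 2) (fun v : T => (v : V)) := by
    refine indep (b := b) h.self ?_ _ ?_
    · rw [Fintype.card_coe, hT10]; decide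
    · intro v w hvw
      exact h.b_O (hTO v v.2) (hTO w w.2) fun h' => hvw (Subtype.ext h')
  have : Module.Finite (ZMod 2) V := Module.Finite.of_finite
  have h3 := h2.fintype_card_le_finrank
  rw [h.finrank, Fintype.card_coe, hT10] at h3
  omega

theorem inv_eq (h : Cfg b q H X D a) {f : V ≃ₗ[ZMod 2] V} (hf : f ∈ X) : f⁻¹ = f :=
  inv_eq_of_mul_eq_one_left (h.Xsq f hf)

theorem semi' (h : Cfg b q H X D a) {f : V ≃ₗ[ZMod 2] V} (hf : f ∈ X) {w : V} (hw : w ∈ O H a)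
    (hwa : w ≠ a) (hfw : f w = w) : f = 1 := by
  obtain ⟨g, hg, rfl⟩ := hw
  exact h.semi f hf g hg hwa hfw

theorem inj_X (h : Cfg b q H X D a) {w : V} (hw : w ∈ O H a) (hwa : w ≠ a) :
    Set.InjOn (fun f : V ≃ₗ[ZMod 2] V => f w) (X : Set (V ≃ₗ[ZMod 2] V)) := by
  intro f hf g hg hfg
  have h1 : f⁻¹ * g = 1 := by
    refine h.semi' (X.mul_mem (X.inv_mem hf) hg) hw hwa ?_
    have h2 : f ((f⁻¹ * g) w) = f w := by
      show (f * (f⁻¹ * g)) w = f w
      rw [mul_inv_cancel_left]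
      exact hfg.symm
    exact f.injective h2
  exact (inv_mul_eq_one.1 h1)

theorem image_subset (h : Cfg b q H X D a) {w : V} (hw : w ∈ O H a) (hwa : w ≠ a) :
    insert a ((fun f : V ≃ₗ[ZMod 2] V => f w) '' (X : Set (V ≃ₗ[ZMod 2] V))) ⊆ O H a := by
  rintro v (rfl | ⟨f, hf, rfl⟩)
  · exact a_mem_O
  · exact map_mem_O (h.XH hf) hw

theorem a_notMem (h : Cfg b q H X D a) {w : V} (hwa : w ≠ a) :
    a ∉ (fun f : V ≃ₗ[ZMod 2] V => f w) '' (X : Set (V ≃ₗ[ZMod 2] V)) := by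
  rintro ⟨f, hf, hfa⟩
  apply hwa
  have h1 := h.Xa f hf
  exact f.injective (hfa.trans h1.symm)

theorem exists_w (h : Cfg b q H X D a) : ∃ w ∈ O H a, w ≠ a := by
  obtain ⟨f, hf, hfa⟩ := h.mv
  exact ⟨f a, ⟨f, hf, rfl⟩, hfa⟩

theorem finiteX (h : Cfg b q H X D a) : Finite (V ≃ₗ[ZMod 2] V) := by
  have := h.finite
  exact Finite.of_injective (fun f : V ≃ₗ[ZMod 2] V => (f : V → V)) (fun f g hfg => by
    ext v; exact congrFun hfg v)

theorem ncard_insert (h : Cfg b q H X D a) {w : V} (hw : w ∈ O H a) (hwa : w ≠ a) :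
    (insert a ((fun f : V ≃ₗ[ZMod 2] V => f w) '' (X : Set (V ≃ₗ[ZMod 2] V)))).ncard
      = Nat.card X + 1 := by
  have := h.finite
  have := h.finiteX
  rw [Set.ncard_insert_of_notMem (h.a_notMem hwa), Set.ncard_image_of_injOn (h.inj_X hw hwa)]
  rfl

theorem card_O (h : Cfg b q H X D a) : (O H a).ncard = 9 := by
  have := h.finite
  obtain ⟨w, hw, hwa⟩ := h.exists_w
  have h1 := Set.ncard_le_ncard (h.image_subset hw hwa) (Set.toFinite _)
  rw [h.ncard_insert hw hwa] at h1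
  have h2 := h.card_O_le
  have h3 := h.card_X_ge
  omega

theorem card_X (h : Cfg b q H X D a) : Nat.card X = 8 := by
  have := h.finite
  obtain ⟨w, hw, hwa⟩ := h.exists_w
  have h1 := Set.ncard_le_ncard (h.image_subset hw hwa) (Set.toFinite _)
  rw [h.ncard_insert hw hwa] at h1
  have h2 := h.card_O_le
  have h3 := h.card_X_ge
  omega

theorem card_D (h : Cfg b q H X D a) : Nat.card D = 16 := by
  have h1 := h.cardXD
  rw [h.card_X, h.card] at h1
  omega

/-- `X` is transitive on `O - {a}` -/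
theorem exists_X (h : Cfg b q H X D a) {v w : V} (hv : v ∈ O H a) (hva : v ≠ a) (hw : w ∈ O H a)
    (hwa : w ≠ a) : ∃ f ∈ X, f w = v := by
  have := h.finite
  have h1 := Set.eq_of_subset_of_ncard_le (h.image_subset hw hwa)
    (by rw [h.ncard_insert hw hwa, h.card_O, h.card_X]) (Set.toFinite _)
  rw [← h1] at hv
  rcases hv with h2 | ⟨f, hf, h2⟩
  · exact absurd h2 hva
  · exact ⟨f, hf, h2⟩

/-- the coordinates -/
theorem span_X (h : Cfg b q H X D a) {w : V} (hw : w ∈ O H a) (hwa : w ≠ a) :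
    Submodule.span (ZMod 2) (Set.range (fun f : X => (f : V ≃ₗ[ZMod 2] V) w)) = ⊤ := by
  classical
  have := h.finite
  have := h.finiteX
  have : Module.Finite (ZMod 2) V := Module.Finite.of_finite
  have : Fintype X := Fintype.ofFinite X
  have hc : Fintype.card X = 8 := by rw [← Nat.card_eq_fintype_card, h.card_X]
  have h1 : LinearIndependent (ZMod 2) (fun f : X => (f : V ≃ₗ[ZMod 2] V) w) := by
    refine indep (b := b) h.self (by rw [hc]; decide) _ ?_
    intro f g hfg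
    refine h.b_O (map_mem_O (h.XH f.2) hw) (map_mem_O (h.XH g.2) hw) fun h' => hfg ?_
    exact Subtype.ext (h.inj_X hw hwa f.2 g.2 h')
  exact h1.span_eq_top_of_card_eq_finrank' (by rw [hc, h.finrank])

theorem eq_zero_of_perp (h : Cfg b q H X D a) {w : V} (hw : w ∈ O H a) (hwa : w ≠ a) {v : V}
    (hv : ∀ f ∈ X, b v (f w) = 0) : v = 0 := by
  apply h.nondeg
  intro u
  have hu : u ∈ Submodule.span (ZMod 2) (Set.range (fun f : X => (f : V ≃ₗ[ZMod 2] V) w)) := by
    rw [h.span_X hw hwa]; trivial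
  refine Submodule.span_induction ?_ ?_ ?_ ?_ hu
  · rintro _ ⟨f, rfl⟩
    exact hv f f.2
  · rw [map_zero]
  · intro x y _ _ hx hy
    rw [map_add, hx, hy, add_zero]
  · intro c x _ hx
    rw [map_smul, hx, smul_zero]

theorem eq_of_perp (h : Cfg b q H X D a) {w : V} (hw : w ∈ O H a) (hwa : w ≠ a) {u v : V}
    (hv : ∀ f ∈ X, b u (f w) = b v (f w)) : u = v := by
  apply eq_of_add
  refine h.eq_zero_of_perp hw hwa fun f hf => ?_
  rw [map_add, LinearMap.add_apply, hv f hf, add_self]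

/-- every function on `X` is `f ↦ b v (f w)` for some `v` -/
theorem exists_coord (h : Cfg b q H X D a) {w : V} (hw : w ∈ O H a) (hwa : w ≠ a)
    (g : X → ZMod 2) : ∃ v, ∀ f : X, b v ((f : V ≃ₗ[ZMod 2] V) w) = g f := by
  classical
  have := h.finite
  have := h.finiteX
  let Φ : V → (X → ZMod 2) := fun v f => b v ((f : V ≃ₗ[ZMod 2] V) w)
  have hinj : Function.Injective Φ := by
    intro u v huv
    exact h.eq_of_perp hw hwa fun f hf => congrFun huv ⟨f, hf⟩
  have hcard : Nat.card V = Nat.card (X → ZMod 2) := by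
    rw [Nat.card_fun, h.card, h.card_X, Nat.card_zmod]
  have hsurj : Function.Surjective Φ :=
    ((Nat.bijective_iff_injective_and_card Φ).2 ⟨hinj, hcard⟩).2
  obtain ⟨v, hv⟩ := hsurj g
  exact ⟨v, fun f => congrFun hv f⟩

/-- `C_V(X) = {0, a}` -/
theorem fixed_X (h : Cfg b q H X D a) {v : V} (hv : ∀ f ∈ X, f v = v) : v = 0 ∨ v = a := by
  obtain ⟨w, hw, hwa⟩ := h.exists_w
  have h1 : ∀ f ∈ X, b v (f w) = b v w := fun f hf => by
    have h2 := h.isom f (h.XH hf) v w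
    rw [hv f hf] at h2
    exact h2
  rcases zm (b v w) with h2 | h2
  · left
    exact h.eq_zero_of_perp hw hwa fun f hf => by rw [h1 f hf, h2]
  · right
    refine h.eq_of_perp hw hwa fun f hf => ?_
    rw [h1 f hf, h2, h.b_O a_mem_O (map_mem_O (h.XH hf) hw)]
    intro h3
    exact h.a_notMem hwa ⟨f, hf, h3.symm⟩

/-- `C_V(x) = [V, x]` -/
theorem fixed_x (h : Cfg b q H X D a) {x : V ≃ₗ[ZMod 2] V} (hx : x ∈ X) (hx1 : x ≠ 1) {v : V}
    (hv : x v = v) : ∃ u, v = u + x u := by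
  classical
  have := h.finite
  have := h.finiteX
  obtain ⟨w, hw, hwa⟩ := h.exists_w
  obtain ⟨n, ⟨e⟩⟩ := Finite.exists_equiv_fin X
  let x' : X := ⟨x, hx⟩
  have hxx : x' * x' = 1 := Subtype.ext (h.Xsq x hx)
  have hne : ∀ y : X, e y ≠ e (x' * y) := by
    intro y hy
    apply hx1
    have := e.injective hy
    have h1 : x' = 1 := (mul_eq_right.1 this.symm)
    exact congrArg Subtype.val h1
  let χ : X → ZMod 2 := fun y => if e y < e (x' * y) then 1 else 0
  have hχ : ∀ y, χ y + χ (x' * y) = 1 := by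
    intro y
    have h1 : x' * (x' * y) = y := by rw [← mul_assoc, hxx, one_mul]
    simp only [χ, h1]
    rcases lt_or_gt_of_ne (hne y) with h2 | h2
    · rw [if_pos h2, if_neg (not_lt_of_gt h2)]; decide
    · rw [if_neg (not_lt_of_gt h2), if_pos h2]; decide
  obtain ⟨u, hu⟩ := h.exists_coord hw hwa (fun y => b v ((y : V ≃ₗ[ZMod 2] V) w) * χ y)
  refine ⟨u, h.eq_of_perp hw hwa fun f hf => ?_⟩
  have hb : ∀ y : V ≃ₗ[ZMod 2] V, ∀ t, b (x t) (y w) = b t ((x * y) w) := by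
    intro y t
    have h2 := h.isom x (h.XH hx) t ((x * y) w)
    have h3 : x ((x * y) w) = y w := by
      show (x * (x * y)) w = y w
      rw [← mul_assoc, h.Xsq x hx, one_mul]
    rw [h3] at h2
    exact h2
  have h4 := hu ⟨f, hf⟩
  have h5 := hu (x' * ⟨f, hf⟩)
  have h6 : b v (((x' * ⟨f, hf⟩ : X) : V ≃ₗ[ZMod 2] V) w) = b v (f w) := by
    have h7 := hb f v
    rw [hv] at h7
    exact h7.symm
  rw [map_add, LinearMap.add_apply, hb f u]
  show b v (f w) = b u (f w) + b u ((x * f) w)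
  have h8 : b u ((x * f) w) = b v (f w) * χ (x' * ⟨f, hf⟩) := by
    rw [← h6]; exact h5
  rw [h8, h4, ← mul_add, hχ, mul_one]

end Cfg

/-! ## Fixed points -/

namespace Cfg

variable {b : LinearMap.BilinForm (ZMod 2) V} {q : V → ZMod 2}
  {H X : Subgroup (V ≃ₗ[ZMod 2] V)} {D : Submodule (ZMod 2) V} {a : V}

/-- fixed elements of the orbit -/
def Fx (H : Subgroup (V ≃ₗ[ZMod 2] V)) (a : V) (s : V ≃ₗ[ZMod 2] V) : Set V :=
  {v | v ∈ O H a ∧ s v = v}

/-- the elements of `X` commuting with `s` -/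
def CX (X : Subgroup (V ≃ₗ[ZMod 2] V)) (s : V ≃ₗ[ZMod 2] V) : Subgroup (V ≃ₗ[ZMod 2] V) :=
  X ⊓ Subgroup.centralizer {s}

theorem mem_CX {s f : V ≃ₗ[ZMod 2] V} : f ∈ CX X s ↔ f ∈ X ∧ f * s = s * f := by
  rw [CX, Subgroup.mem_inf, Subgroup.mem_centralizer_singleton_iff]

theorem comm_of (h : Cfg b q H X D a) {s f : V ≃ₗ[ZMod 2] V} (hs : s ∈ H) (hsa : s a = a)
    (hf : f ∈ X) {w : V} (hw : w ∈ O H a) (hwa : w ≠ a) (hsw : s w = w) (hfw : s (f w) = f w) :
    f * s = s * f := by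
  have h1 := h.Xnormal s hs hsa f hf
  have h2 : s⁻¹ w = w := by
    have : s⁻¹ (s w) = w := by
      show (s⁻¹ * s) w = w
      rw [inv_mul_cancel]; rfl
    rwa [hsw] at this
  have h3 : (s * f * s⁻¹) w = f w := by
    show s (f (s⁻¹ w)) = f w
    rw [h2, hfw]
  have h4 : s * f * s⁻¹ = f := h.inj_X hw hwa h1 hf h3
  exact (mul_inv_eq_iff_eq_mul.1 h4).symm

theorem Fx_eq (h : Cfg b q H X D a) {s : V ≃ₗ[ZMod 2] V} (hs : s ∈ H) (hsa : s a = a)
    {w : V} (hw : w ∈ O H a) (hwa : w ≠ a) (hsw : s w = w) :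
    Fx H a s = insert a ((fun f : V ≃ₗ[ZMod 2] V => f w) '' (CX X s : Set (V ≃ₗ[ZMod 2] V))) := by
  ext v
  constructor
  · rintro ⟨hv, hsv⟩
    by_cases hva : v = a
    · exact Or.inl hva
    · right
      obtain ⟨f, hf, rfl⟩ := h.exists_X hv hva hw hwa
      exact ⟨f, mem_CX.2 ⟨hf, h.comm_of hs hsa hf hw hwa hsw hsv⟩, rfl⟩
  · rintro (rfl | ⟨f, hf, rfl⟩)
    · exact ⟨a_mem_O, hsa⟩
    · obtain ⟨hfX, hfs⟩ := mem_CX.1 hf
      refine ⟨map_mem_O (h.XH hfX) hw, ?_⟩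
      show (s * f) w = f w
      rw [← hfs]
      show f (s w) = f w
      rw [hsw]

theorem card_Fx (h : Cfg b q H X D a) {s : V ≃ₗ[ZMod 2] V} (hs : s ∈ H) (hsa : s a = a)
    {w : V} (hw : w ∈ O H a) (hwa : w ≠ a) (hsw : s w = w) :
    (Fx H a s).ncard = Nat.card (CX X s) + 1 := by
  have := h.finite
  have := h.finiteX
  have hle : (CX X s : Set (V ≃ₗ[ZMod 2] V)) ⊆ X := fun f hf => (mem_CX.1 hf).1
  rw [h.Fx_eq hs hsa hw hwa hsw, Set.ncard_insert_of_notMem,
    Set.InjOn.ncard_image ((h.inj_X hw hwa).mono hle)]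
  · rfl
  · intro h1
    exact h.a_notMem hwa (Set.image_mono hle h1)

theorem card_CX_dvd (h : Cfg b q H X D a) (s : V ≃ₗ[ZMod 2] V) : Nat.card (CX X s) ∣ 8 := by
  rw [← h.card_X]
  exact Subgroup.card_dvd_of_le (inf_le_left)

theorem modcount (h : Cfg b q H X D a) {p : ℕ} (hp : p.Prime) {s : V ≃ₗ[ZMod 2] V} (hs : s ∈ H)
    (hsp : s ^ p = 1) : 9 ≡ (Fx H a s).ncard [MOD p] := by
  classical
  have := h.finite
  have : Fact p.Prime := ⟨hp⟩
  have : Fintype (O H a) := Fintype.ofFinite _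
  let f : Function.End (O H a) := fun v => ⟨s v, map_mem_O hs v.2⟩
  have hfn : ∀ (n : ℕ) (v : O H a), (((f ^ n) v : O H a) : V) = (s ^ n) v := by
    intro n
    induction n with
    | zero => intro v; rfl
    | succ n ih =>
      intro v
      rw [pow_succ, pow_succ]
      show (((f ^ n) (f v) : O H a) : V) = (s ^ n) (s v)
      rw [ih]
  have hf : f ^ p ^ 1 = 1 := by
    funext v
    apply Subtype.ext
    rw [hfn, pow_one, hsp]
    rfl
  have h1 := Equiv.Perm.card_fixedPoints_modEq (p := p) (n := 1) hf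
  have h2 : Fintype.card (O H a) = 9 := by
    rw [← Nat.card_eq_fintype_card]; exact h.card_O
  rw [h2] at h1
  have h3 : Fintype.card (Function.fixedPoints f) = (Fx H a s).ncard := by
    rw [← Nat.card_eq_fintype_card, ← Nat.card_coe_set_eq]
    apply Nat.card_congr
    refine ⟨fun v => ⟨v.1, v.1.2, congrArg Subtype.val v.2⟩, fun v => ⟨⟨v.1, v.2.1⟩, Subtype.ext v.2.2⟩,
      fun v => rfl, fun v => rfl⟩
  rw [h3] at h1
  exact h1

theorem eq_one_of_fix (h : Cfg b q H X D a) {w : V} (hw : w ∈ O H a) (hwa : w ≠ a)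
    {s : V ≃ₗ[ZMod 2] V} (hs : ∀ f ∈ X, s (f w) = f w) : s = 1 := by
  ext v
  have hv : v ∈ Submodule.span (ZMod 2) (Set.range (fun f : X => (f : V ≃ₗ[ZMod 2] V) w)) := by
    rw [h.span_X hw hwa]; trivial
  show s v = v
  refine Submodule.span_induction ?_ ?_ ?_ ?_ hv
  · rintro _ ⟨f, rfl⟩
    exact hs f f.2
  · rw [map_zero]
  · intro x y _ _ hx hy
    rw [map_add, hx, hy]
  · intro c x _ hx
    rw [map_smul, hx]

theorem conj_a (g s : V ≃ₗ[ZMod 2] V) {i : V} (hi : g a = i) (hsi : s i = i) :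
    (g⁻¹ * s * g) a = a := by
  show g⁻¹ (s (g a)) = a
  rw [hi, hsi, ← hi]
  show (g⁻¹ * g) a = a
  rw [inv_mul_cancel]; rfl

theorem inv_apply_apply (g : V ≃ₗ[ZMod 2] V) (v : V) : g⁻¹ (g v) = v := by
  show (g⁻¹ * g) v = v
  rw [inv_mul_cancel]; rfl

theorem apply_inv_apply (g : V ≃ₗ[ZMod 2] V) (v : V) : g (g⁻¹ v) = v := by
  show (g * g⁻¹) v = v
  rw [mul_inv_cancel]; rfl

/-- transport of two fixed points to `a` and `w` -/
theorem transport {g s : V ≃ₗ[ZMod 2] V} (hg : g ∈ H) (hs : s ∈ H) {i j : V}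
    (hi : g a = i) (hj : j ∈ O H a) (hij : i ≠ j) (hsi : s i = i) (hsj : s j = j) :
    g⁻¹ * s * g ∈ H ∧ (g⁻¹ * s * g) a = a ∧ g⁻¹ j ∈ O H a ∧ g⁻¹ j ≠ a ∧
      (g⁻¹ * s * g) (g⁻¹ j) = g⁻¹ j := by
  refine ⟨H.mul_mem (H.mul_mem (H.inv_mem hg) hs) hg, conj_a g s hi hsi,
    map_mem_O (H.inv_mem hg) hj, fun h1 => hij ?_, ?_⟩
  · rw [← hi, ← h1, apply_inv_apply]
  · show g⁻¹ (s (g (g⁻¹ j))) = g⁻¹ j
    rw [apply_inv_apply, hsj]

theorem mul_zpow_self_aux {M : Type*} [Group M] (y : M) (n : ℤ) : (y * y) ^ n = y ^ n * y ^ n := by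
  rw [← zpow_two, ← zpow_mul, mul_comm, zpow_mul, zpow_two]

theorem conj_eq_one {g s : V ≃ₗ[ZMod 2] V} (h1 : g⁻¹ * s * g = 1) : s = 1 := by
  calc s = g * (g⁻¹ * s * g) * g⁻¹ := by group
    _ = 1 := by rw [h1]; group

theorem conj_pow' (g s : V ≃ₗ[ZMod 2] V) (n : ℕ) : (g⁻¹ * s * g) ^ n = g⁻¹ * s ^ n * g := by
  have h1 := conj_pow (i := n) (a := g⁻¹) (b := s)
  rw [inv_inv] at h1
  exact h1

theorem eq_one_of_pow_five (h : Cfg b q H X D a) {s : V ≃ₗ[ZMod 2] V} (hs : s ∈ H)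
    (h5 : s ^ 5 = 1) : s = 1 := by
  have := h.finite
  have := h.finiteX
  have h1 := h.modcount (by norm_num) hs h5
  have h2 : 1 < (Fx H a s).ncard := by
    by_contra hcon
    unfold Nat.ModEq at h1
    omega
  obtain ⟨i, hi, j, hj, hij⟩ := (Set.one_lt_ncard (Set.toFinite _)).1 h2
  obtain ⟨⟨g, hg, hga⟩, hsi⟩ := hi
  obtain ⟨t1, t2, t3, t4, t5⟩ := transport hg hs hga hj.1 hij hsi hj.2
  have h3 := h.modcount (p := 5) (by norm_num) t1 (by rw [conj_pow', h5]; group)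
  rw [h.card_Fx t1 t2 t3 t4 t5] at h3
  have h4 := h.card_CX_dvd (g⁻¹ * s * g)
  have h6 : Nat.card (CX X (g⁻¹ * s * g)) = 8 := by
    have h7 := Nat.le_of_dvd (by norm_num) h4
    revert h3 h4
    generalize Nat.card (CX X (g⁻¹ * s * g)) = c at h7 ⊢
    intro h3 h4
    unfold Nat.ModEq at h3
    interval_cases c <;> first | omega | (exfalso; revert h4; decide) | (exfalso; revert h3; decide)
  apply conj_eq_one (g := g)
  refine h.eq_one_of_fix t3 t4 fun f hf => ?_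
  have h7 : CX X (g⁻¹ * s * g) = X :=
    Subgroup.eq_of_le_of_card_ge inf_le_left (by rw [h6, h.card_X])
  have h8 : f ∈ CX X (g⁻¹ * s * g) := by rw [h7]; exact hf
  have h9 := (mem_CX.1 h8).2
  show ((g⁻¹ * s * g) * f) (g⁻¹ j) = f (g⁻¹ j)
  rw [← h9]
  show f ((g⁻¹ * s * g) (g⁻¹ j)) = f (g⁻¹ j)
  rw [t5]

theorem not_five (h : Cfg b q H X D a) : ¬ 5 ∣ Nat.card H := by
  intro h5
  have := h.finiteX
  have : Fact (Nat.Prime 5) := ⟨by norm_num⟩
  obtain ⟨s, hs⟩ := exists_prime_orderOf_dvd_card' 5 h5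
  have h1 : (s : V ≃ₗ[ZMod 2] V) = 1 := by
    refine h.eq_one_of_pow_five s.2 ?_
    have := pow_orderOf_eq_one s
    rw [hs] at this
    exact congrArg Subtype.val this
  have h2 : s = 1 := Subtype.ext h1
  rw [h2, orderOf_one] at hs
  exact absurd hs (by norm_num)

/-- no subgroup of `H` has an orbit of length five -/
theorem no_orbit_five (h : Cfg b q H X D a) {K : Subgroup (V ≃ₗ[ZMod 2] V)} (hK : K ≤ H) {S : Set V}
    {v : V} (hv : v ∈ S) (hS : ∀ k ∈ K, ∀ u ∈ S, k u ∈ S) (htr : ∀ u ∈ S, ∃ k ∈ K, k v = u) :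
    S.ncard ≠ 5 := by
  intro h5
  have := h.finite
  have := h.finiteX
  have h1 : MulAction.orbit K v = S := by
    ext u
    constructor
    · rintro ⟨k, rfl⟩
      exact hS k k.2 v hv
    · intro hu
      obtain ⟨k, hk, rfl⟩ := htr u hu
      exact ⟨⟨k, hk⟩, rfl⟩
  have h2 : (MulAction.orbit K v).ncard ∣ Nat.card K := by
    rw [← MulAction.index_stabilizer]
    exact Subgroup.index_dvd_card _
  rw [h1] at h2
  apply h.not_five
  rw [h5] at h2
  exact h2.trans (Subgroup.card_dvd_of_le hK)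

/-- `x ↦ x · y x y⁻¹` -/
theorem card_CX_sq (h : Cfg b q H X D a) {y : V ≃ₗ[ZMod 2] V} (hy : y ∈ H) (hyy : y * y = 1)
    (hya : y a = a) : 8 ≤ Nat.card (CX X y) * Nat.card (CX X y) := by
  have := h.finite
  have := h.finiteX
  let τ : X →* X :=
    { toFun := fun x => x * ⟨y * x * y⁻¹, h.Xnormal y hy hya x x.2⟩
      map_one' := by
        apply Subtype.ext
        show (1 : V ≃ₗ[ZMod 2] V) * (y * 1 * y⁻¹) = 1
        group
      map_mul' := by
        intro u v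
        apply Subtype.ext
        show (u : V ≃ₗ[ZMod 2] V) * v * (y * (u * v) * y⁻¹) = u * (y * u * y⁻¹) * (v * (y * v * y⁻¹))
        have h1 := h.Xcomm _ (h.Xnormal y hy hya u u.2) v v.2
        calc (u : V ≃ₗ[ZMod 2] V) * v * (y * (u * v) * y⁻¹)
            = u * (v * (y * u * y⁻¹)) * (y * v * y⁻¹) := by group
          _ = u * ((y * u * y⁻¹) * v) * (y * v * y⁻¹) := by rw [h1]
          _ = _ := by group }
  have hk : Nat.card τ.ker ≤ Nat.card (CX X y) := by
    refine Nat.card_le_card_of_injective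
      (fun x : τ.ker => (⟨(x : X), mem_CX.2 ⟨(x : X).2, ?_⟩⟩ : CX X y)) ?_
    · have h1 : ((x : X) : V ≃ₗ[ZMod 2] V) * (y * (x : X) * y⁻¹) = 1 :=
        congrArg Subtype.val (MonoidHom.mem_ker.1 x.2)
      have h2 := eq_inv_of_mul_eq_one_right h1
      rw [h.inv_eq (x : X).2] at h2
      exact (mul_inv_eq_iff_eq_mul.1 h2).symm
    · intro u v huv
      apply Subtype.ext
      apply Subtype.ext
      exact congrArg (fun t : CX X y => (t : V ≃ₗ[ZMod 2] V)) huv
  have hr : Nat.card τ.range ≤ Nat.card (CX X y) := by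
    refine Nat.card_le_card_of_injective
      (fun x : τ.range => (⟨(x : X), mem_CX.2 ⟨(x : X).2, ?_⟩⟩ : CX X y)) ?_
    · obtain ⟨x, ⟨u, hu⟩⟩ := x
      have hx : (x : V ≃ₗ[ZMod 2] V) = u * (y * u * y⁻¹) := congrArg Subtype.val hu.symm
      show (x : V ≃ₗ[ZMod 2] V) * y = y * x
      rw [hx]
      have hyi : y⁻¹ = y := inv_eq_of_mul_eq_one_left hyy
      have h1 := h.Xcomm _ (h.Xnormal y hy hya u u.2) u u.2
      calc (u : V ≃ₗ[ZMod 2] V) * (y * u * y⁻¹) * y = ((y * u * y⁻¹) * u) * y := by rw [h1]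
        _ = y * (u * (y⁻¹ * u * y)) := by group
        _ = y * (u * (y * u * y⁻¹)) := by rw [hyi]
    · intro u v huv
      apply Subtype.ext
      apply Subtype.ext
      exact congrArg (fun t : CX X y => (t : V ≃ₗ[ZMod 2] V)) huv
  have h1 := Subgroup.card_eq_card_quotient_mul_card_subgroup τ.ker
  have h2 : Nat.card (X ⧸ τ.ker) = Nat.card τ.range :=
    Nat.card_congr (QuotientGroup.quotientKerEquivRange τ).toEquiv
  rw [h2, h.card_X] at h1
  rw [h1]
  exact Nat.mul_le_mul hr hk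

theorem fix_two_a (h : Cfg b q H X D a) {y : V ≃ₗ[ZMod 2] V} (hy : y ∈ H) (hyy : y * y = 1)
    (hya : y a = a) {w : V} (hw : w ∈ O H a) (hwa : w ≠ a) (hyw : y w = w) : y = 1 := by
  classical
  have := h.finite
  have := h.finiteX
  have h1 := h.modcount (p := 2) (by norm_num) hy (by rw [pow_two]; exact hyy)
  rw [h.card_Fx hy hya hw hwa hyw] at h1
  have h2 := h.card_CX_dvd y
  have h3 := h.card_CX_sq hy hyy hya
  have h4 : Nat.card (CX X y) = 4 ∨ Nat.card (CX X y) = 8 := by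
    have h7 := Nat.le_of_dvd (by norm_num) h2
    revert h1 h2 h3
    generalize Nat.card (CX X y) = c at h7 ⊢
    intro h1 h2 h3
    unfold Nat.ModEq at h1
    interval_cases c <;> first | omega | (exfalso; revert h2; decide)
  rcases h4 with h4 | h4
  · exfalso
    have hF5 : (Fx H a y).ncard = 5 := by rw [h.card_Fx hy hya hw hwa hyw, h4]
    refine h.no_orbit_five (K := H ⊓ Subgroup.centralizer {y}) inf_le_left (S := Fx H a y)
      (v := a) ⟨a_mem_O, hya⟩ ?_ ?_ hF5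
    · intro k hk u hu
      obtain ⟨hkH, hky⟩ := Subgroup.mem_inf.1 hk
      rw [Subgroup.mem_centralizer_singleton_iff] at hky
      refine ⟨map_mem_O hkH hu.1, ?_⟩
      show (y * k) u = k u
      rw [← hky]
      show k (y u) = k u
      rw [hu.2]
    · intro v hv
      by_cases hva : v = a
      · exact ⟨1, Subgroup.one_mem _, hva.symm⟩
      -- a third point
      obtain ⟨u, hu, hua, huv⟩ : ∃ u ∈ Fx H a y, u ≠ a ∧ u ≠ v := by
        by_contra hcon
        push Not at hcon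
        have hsub : Fx H a y ⊆ {a, v} := by
          intro u hu
          by_cases hua : u = a
          · exact Or.inl hua
          · exact Or.inr (hcon u hu hua)
        have := Set.ncard_le_ncard hsub (Set.toFinite _)
        have h8 := Set.ncard_insert_le a {v}
        rw [Set.ncard_singleton] at h8
        omega
      obtain ⟨⟨g, hg, hga⟩, hyu⟩ := hu
      obtain ⟨t1, t2, t3, t4, t5⟩ := transport hg hy hga a_mem_O hua hyu hya
      obtain ⟨-, -, s3, s4, s5⟩ := transport hg hy hga hv.1 huv hyu hv.2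
      obtain ⟨f, hf, hfe⟩ := h.exists_X s3 s4 t3 t4
      have hc := h.comm_of t1 t2 hf t3 t4 t5 (by rw [hfe]; exact s5)
      refine ⟨g * f * g⁻¹, Subgroup.mem_inf.2 ⟨H.mul_mem (H.mul_mem hg (h.XH hf)) (H.inv_mem hg), ?_⟩,
        ?_⟩
      · rw [Subgroup.mem_centralizer_singleton_iff]
        calc g * f * g⁻¹ * y = g * (f * (g⁻¹ * y * g)) * g⁻¹ := by group
          _ = g * ((g⁻¹ * y * g) * f) * g⁻¹ := by rw [hc]
          _ = y * (g * f * g⁻¹) := by group
      · show g (f (g⁻¹ a)) = v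
        rw [hfe, apply_inv_apply]
  · refine h.eq_one_of_fix hw hwa fun f hf => ?_
    have h7 : CX X y = X :=
      Subgroup.eq_of_le_of_card_ge inf_le_left (by rw [h4, h.card_X])
    have h8 : f ∈ CX X y := by rw [h7]; exact hf
    have h9 := (mem_CX.1 h8).2
    show (y * f) w = f w
    rw [← h9]
    show f (y w) = f w
    rw [hyw]

/-- an involution of `H` fixes at most one element of `O` -/
theorem fix_two (h : Cfg b q H X D a) {y : V ≃ₗ[ZMod 2] V} (hy : y ∈ H) (hyy : y * y = 1)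
    {i j : V} (hi : i ∈ O H a) (hj : j ∈ O H a) (hij : i ≠ j) (hyi : y i = i) (hyj : y j = j) :
    y = 1 := by
  obtain ⟨g, hg, hga⟩ := hi
  obtain ⟨t1, t2, t3, t4, t5⟩ := transport hg hy hga hj hij hyi hyj
  have h1 : (g⁻¹ * y * g) * (g⁻¹ * y * g) = 1 := by
    calc (g⁻¹ * y * g) * (g⁻¹ * y * g) = g⁻¹ * (y * y) * g := by group
      _ = 1 := by rw [hyy]; group
  exact conj_eq_one (h.fix_two_a t1 h1 t2 t3 t4 t5)

/-- involutions of `H` fixing `a` lie in `X` -/
theorem mem_X_of_sq (h : Cfg b q H X D a) {y : V ≃ₗ[ZMod 2] V} (hy : y ∈ H) (hyy : y * y = 1)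
    (hya : y a = a) : y ∈ X := by
  obtain ⟨w, hw, hwa⟩ := h.exists_w
  have hyw : y w ≠ a := fun h1 => hwa (y.injective (h1.trans hya.symm))
  obtain ⟨x, hx, hxw⟩ := h.exists_X (map_mem_O hy hw) hyw hw hwa
  -- `s = x y`
  have hsH : x * y ∈ H := H.mul_mem (h.XH hx) hy
  have hsa : (x * y) a = a := by
    show x (y a) = a
    rw [hya, h.Xa x hx]
  have hsw : (x * y) w = w := by
    show x (y w) = w
    rw [← hxw]
    show (x * x) w = w
    rw [h.Xsq x hx]; rfl
  have hss : (x * y) * (x * y) ∈ X := by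
    have h1 := X.mul_mem hx (h.Xnormal y hy hya x hx)
    have hyi : y⁻¹ = y := inv_eq_of_mul_eq_one_left hyy
    have h2 : (x * y) * (x * y) = x * (y * x * y⁻¹) := by rw [hyi]; group
    rw [h2]; exact h1
  have hs1 : (x * y) * (x * y) = 1 := by
    refine h.semi' hss hw hwa ?_
    show (x * y) ((x * y) w) = w
    rw [hsw, hsw]
  have h3 := h.fix_two_a hsH hs1 hsa hw hwa hsw
  have h4 : y = x⁻¹ := eq_inv_of_mul_eq_one_right h3
  rw [h4]; exact X.inv_mem hx

/-- a subgroup of exponent two fixes an element of `O` -/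
theorem exists_fixed (h : Cfg b q H X D a) (K : Subgroup (V ≃ₗ[ZMod 2] V)) (hK : K ≤ H)
    (hKK : ∀ y ∈ K, y * y = 1) : ∃ i ∈ O H a, ∀ y ∈ K, y i = i := by
  have := h.finite
  have := h.finiteX
  letI : MulAction K (O H a) :=
    { smul := fun y v => ⟨(y : V ≃ₗ[ZMod 2] V) v, map_mem_O (hK y.2) v.2⟩
      one_smul := fun v => rfl
      mul_smul := fun y z v => rfl }
  have hp : IsPGroup 2 K := by
    intro y
    refine ⟨1, Subtype.ext ?_⟩
    show (y : V ≃ₗ[ZMod 2] V) ^ (2 ^ 1) = 1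
    rw [pow_one, pow_two]; exact hKK y y.2
  have : Fact (Nat.Prime 2) := ⟨by norm_num⟩
  have h9 : ¬ 2 ∣ Nat.card (O H a) := by
    rw [Nat.card_coe_set_eq, h.card_O]; decide
  obtain ⟨i, hi⟩ := hp.nonempty_fixed_point_of_prime_not_dvd_card (O H a) h9
  refine ⟨i, i.2, fun y hy => ?_⟩
  exact congrArg Subtype.val (MulAction.mem_fixedPoints.1 hi ⟨y, hy⟩)

theorem exists_fixed_one (h : Cfg b q H X D a) {y : V ≃ₗ[ZMod 2] V} (hy : y ∈ H)
    (hyy : y * y = 1) : ∃ i ∈ O H a, y i = i := by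
  obtain ⟨i, hi, h1⟩ := h.exists_fixed (Subgroup.zpowers y) (by rwa [Subgroup.zpowers_le]) (by
    rintro z ⟨n, rfl⟩
    show y ^ n * y ^ n = 1
    rw [← mul_zpow_self_aux y n, hyy, one_zpow])
  exact ⟨i, hi, h1 y (Subgroup.mem_zpowers y)⟩

/-- an elementary abelian subgroup of order at least eight fixes only elements of `O` (and `0`) -/
theorem mem_O_of_fixed (h : Cfg b q H X D a) (K : Subgroup (V ≃ₗ[ZMod 2] V)) (hK : K ≤ H)
    (hKK : ∀ y ∈ K, y * y = 1) (h8 : 8 ≤ Nat.card K) {v : V} (hv : v ≠ 0) (hKv : ∀ y ∈ K, y v = v) :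
    v ∈ O H a := by
  have := h.finite
  have := h.finiteX
  obtain ⟨i, ⟨g, hg, rfl⟩, hKi⟩ := h.exists_fixed K hK hKK
  have hle : K.map (MulAut.conj g⁻¹).toMonoidHom ≤ X := by
    rintro _ ⟨y, hy, rfl⟩
    have e : (MulAut.conj g⁻¹).toMonoidHom y = g⁻¹ * y * g := by
      show g⁻¹ * y * g⁻¹⁻¹ = _
      rw [inv_inv]
    rw [e]
    refine h.mem_X_of_sq (H.mul_mem (H.mul_mem (H.inv_mem hg) (hK hy)) hg) ?_
      (conj_a g y rfl (hKi y hy))
    calc (g⁻¹ * y * g) * (g⁻¹ * y * g) = g⁻¹ * (y * y) * g := by group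
      _ = 1 := by rw [hKK y hy]; group
  have hcard : Nat.card (K.map (MulAut.conj g⁻¹).toMonoidHom) = Nat.card K :=
    Subgroup.card_map_of_injective (MulAut.conj g⁻¹).injective
  have heq := Subgroup.eq_of_le_of_card_ge hle (by rw [hcard, h.card_X]; exact h8)
  have h1 : g⁻¹ v = 0 ∨ g⁻¹ v = a := by
    refine h.fixed_X fun f hf => ?_
    rw [← heq] at hf
    obtain ⟨y, hy, rfl⟩ := hf
    have e : (MulAut.conj g⁻¹).toMonoidHom y = g⁻¹ * y * g := by
      show g⁻¹ * y * g⁻¹⁻¹ = _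
      rw [inv_inv]
    rw [e]
    show g⁻¹ (y (g (g⁻¹ v))) = g⁻¹ v
    rw [apply_inv_apply, hKv y hy]
  rcases h1 with h1 | h1
  · exfalso
    apply hv
    rw [← apply_inv_apply g v, h1, map_zero]
  · rw [← apply_inv_apply g v, h1]
    exact ⟨g, hg, rfl⟩

end Cfg

/-! ## The nine subspaces `D_i` -/

namespace Cfg

variable {b : LinearMap.BilinForm (ZMod 2) V} {q : V → ZMod 2}
  {H X : Subgroup (V ≃ₗ[ZMod 2] V)} {D : Submodule (ZMod 2) V} {a : V}

/-- `e ∈ D_i` -/
def InD (H : Subgroup (V ≃ₗ[ZMod 2] V)) (D : Submodule (ZMod 2) V) (a i e : V) : Prop :=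
  ∃ f ∈ H, f a = i ∧ f⁻¹ e ∈ D

theorem inD_iff (h : Cfg b q H X D a) {f : V ≃ₗ[ZMod 2] V} (hf : f ∈ H) {e : V} :
    InD H D a (f a) e ↔ f⁻¹ e ∈ D := by
  constructor
  · rintro ⟨g, hg, hga, hge⟩
    have h1 : (f⁻¹ * g) a = a := by
      show f⁻¹ (g a) = a
      rw [hga, inv_apply_apply]
    have h2 := h.Dinv _ (H.mul_mem (H.inv_mem hf) hg) h1 _ hge
    have h3 : (f⁻¹ * g) (g⁻¹ e) = f⁻¹ e := by
      show f⁻¹ (g (g⁻¹ e)) = f⁻¹ e
      rw [apply_inv_apply]
    rwa [h3] at h2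
  · intro hfe
    exact ⟨f, hf, rfl, hfe⟩

theorem inD_a (h : Cfg b q H X D a) {e : V} : InD H D a a e ↔ e ∈ D :=
  h.inD_iff (f := 1) H.one_mem

theorem inD_map {g : V ≃ₗ[ZMod 2] V} (hg : g ∈ H) {i e : V} (hi : InD H D a i e) :
    InD H D a (g i) (g e) := by
  obtain ⟨f, hf, rfl, hfe⟩ := hi
  refine ⟨g * f, H.mul_mem hg hf, rfl, ?_⟩
  rw [mul_inv_rev]
  show f⁻¹ (g⁻¹ (g e)) ∈ D
  rw [inv_apply_apply]; exact hfe

theorem inD_b (h : Cfg b q H X D a) {i e : V} (hi : InD H D a i e) : b e i = 0 := by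
  obtain ⟨f, hf, rfl, hfe⟩ := hi
  have h1 := h.isom f hf (f⁻¹ e) a
  rw [apply_inv_apply] at h1
  rw [h1]
  exact h.D_iso _ hfe _ h.a_mem

/-- the set of `i` with `e ∈ D_i` -/
def S (H : Subgroup (V ≃ₗ[ZMod 2] V)) (D : Submodule (ZMod 2) V) (a e : V) : Set V :=
  {i | i ∈ O H a ∧ InD H D a i e}

/-- the stabiliser of `e` in `X` -/
def YX (X : Subgroup (V ≃ₗ[ZMod 2] V)) (e : V) : Subgroup (V ≃ₗ[ZMod 2] V) where
  carrier := {f | f ∈ X ∧ f e = e}
  one_mem' := ⟨X.one_mem, rfl⟩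
  mul_mem' := by
    rintro f g ⟨hf, hfe⟩ ⟨hg, hge⟩
    refine ⟨X.mul_mem hf hg, ?_⟩
    show f (g e) = e
    rw [hge, hfe]
  inv_mem' := by
    rintro f ⟨hf, hfe⟩
    refine ⟨X.inv_mem hf, ?_⟩
    conv_lhs => rw [← hfe]
    exact inv_apply_apply f e

theorem card_YX (h : Cfg b q H X D a) {e : V} (he : e ∈ D) : 4 ≤ Nat.card (YX X e) := by
  classical
  have := h.finite
  have := h.finiteX
  -- `X ∖ Y` is empty or a coset of `Y`
  by_contra hcon
  push Not at hcon
  have h1 : (X : Set (V ≃ₗ[ZMod 2] V)).ncard = 8 := h.card_X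
  have h2 : (YX X e : Set (V ≃ₗ[ZMod 2] V)).ncard < 4 := hcon
  obtain ⟨x, hx, hxY⟩ : ∃ x ∈ X, x ∉ YX X e := by
    by_contra hc
    push Not at hc
    have := Set.ncard_le_ncard (s := (X : Set (V ≃ₗ[ZMod 2] V))) (t := YX X e) hc (Set.toFinite _)
    omega
  have hxe : x e = e + a := (h.XD x hx e he).resolve_left fun h3 => hxY ⟨hx, h3⟩
  have hsub : (X : Set (V ≃ₗ[ZMod 2] V)) ⊆
      (YX X e : Set (V ≃ₗ[ZMod 2] V)) ∪ (fun f => x * f) '' (YX X e : Set (V ≃ₗ[ZMod 2] V)) := by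
    intro f hf
    by_cases hfY : f ∈ YX X e
    · exact Or.inl hfY
    · right
      have hfe : f e = e + a := (h.XD f hf e he).resolve_left fun h3 => hfY ⟨hf, h3⟩
      refine ⟨x⁻¹ * f, ⟨X.mul_mem (X.inv_mem hx) hf, ?_⟩, mul_inv_cancel_left x f⟩
      show x⁻¹ (f e) = e
      rw [hfe, ← hxe, inv_apply_apply]
  have h3 := Set.ncard_le_ncard hsub (Set.toFinite _)
  have h4 := Set.ncard_union_le (YX X e : Set (V ≃ₗ[ZMod 2] V))
    ((fun f => x * f) '' (YX X e : Set (V ≃ₗ[ZMod 2] V)))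
  have h5 := Set.ncard_image_le (f := fun f => x * f) (s := (YX X e : Set (V ≃ₗ[ZMod 2] V)))
    (Set.toFinite _)
  omega

theorem ncard_image_YX (h : Cfg b q H X D a) {e : V} (he : e ∈ D) {j : V} (hj : j ∈ O H a)
    (hja : j ≠ a) : 4 ≤ ((fun f : V ≃ₗ[ZMod 2] V => f j) '' (YX X e : Set (V ≃ₗ[ZMod 2] V))).ncard := by
  have hle : (YX X e : Set (V ≃ₗ[ZMod 2] V)) ⊆ X := fun f hf => hf.1
  rw [Set.InjOn.ncard_image ((h.inj_X hj hja).mono hle)]
  exact h.card_YX he

theorem key_a (h : Cfg b q H X D a) {e : V} (he : e ∈ D) (he0 : e ≠ 0) {w : V} (hw : w ∈ O H a)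
    (hwa : w ≠ a) (hwe : InD H D a w e) :
    (S H D a e).ncard = 5 ∧ ∀ j ∈ S H D a e, j ≠ a → ∀ k ∈ S H D a e, k ≠ a →
      ∃ f ∈ H, f e = e ∧ f j = k := by
  classical
  have := h.finite
  have := h.finiteX
  have haS : a ∈ S H D a e := ⟨a_mem_O, h.inD_a.2 he⟩
  -- images
  have him : ∀ j ∈ S H D a e, j ≠ a →
      (fun f : V ≃ₗ[ZMod 2] V => f j) '' (YX X e : Set (V ≃ₗ[ZMod 2] V)) ⊆ S H D a e \ {a} := by
    rintro j hj hja _ ⟨f, hf, rfl⟩
    refine ⟨⟨map_mem_O (h.XH hf.1) hj.1, ?_⟩, ?_⟩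
    · have h1 := inD_map (h.XH hf.1) hj.2
      rwa [hf.2] at h1
    · intro h1
      apply hja
      have h2 : f j = a := h1
      exact f.injective (h2.trans (h.Xa f hf.1).symm)
  -- the non-orthogonal elements
  obtain ⟨n, hn, hen⟩ : ∃ n ∈ O H a, b e n ≠ 0 := by
    by_contra hcon
    push Not at hcon
    exact he0 (h.eq_zero_of_perp hw hwa fun f hf => hcon _ (map_mem_O (h.XH hf) hw))
  have hna : n ≠ a := by
    rintro rfl
    exact hen (h.D_iso _ he _ h.a_mem)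
  have hN : 4 ≤ (O H a \ S H D a e).ncard := by
    refine (h.ncard_image_YX he hn hna).trans (Set.ncard_le_ncard ?_ (Set.toFinite _))
    rintro _ ⟨f, hf, rfl⟩
    refine ⟨map_mem_O (h.XH hf.1) hn, fun h1 => hen ?_⟩
    have h2 := h.inD_b h1.2
    have h3 := h.isom f (h.XH hf.1) e n
    rw [hf.2] at h3
    rw [← h3]; exact h2
  have hSO : S H D a e ⊆ O H a := fun i hi => hi.1
  have h9 : (S H D a e).ncard + (O H a \ S H D a e).ncard = 9 := by
    rw [← h.card_O]
    have := Set.ncard_diff_add_ncard_of_subset hSO (Set.toFinite _)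
    omega
  have h1 : (S H D a e \ {a}).ncard + 1 = (S H D a e).ncard :=
    Set.ncard_diff_singleton_add_one haS (Set.toFinite _)
  have h2 := (h.ncard_image_YX he hw hwa).trans
    (Set.ncard_le_ncard (him w ⟨hw, hwe⟩ hwa) (Set.toFinite _))
  refine ⟨by omega, ?_⟩
  intro j hj hja k hk hka
  have h3 := Set.eq_of_subset_of_ncard_le (him j hj hja)
    (by
      have := h.ncard_image_YX he hj.1 hja
      omega) (Set.toFinite _)
  have h4 : k ∈ S H D a e \ {a} := ⟨hk, hka⟩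
  rw [← h3] at h4
  obtain ⟨f, hf, hfk⟩ := h4
  exact ⟨f, h.XH hf.1, hf.2, hfk⟩

theorem S_map {g : V ≃ₗ[ZMod 2] V} (hg : g ∈ H) {i e : V} (hi : i ∈ S H D a e) :
    g i ∈ S H D a (g e) := ⟨map_mem_O hg hi.1, inD_map hg hi.2⟩

theorem uniq_a (h : Cfg b q H X D a) {e : V} (he : e ∈ D) (he0 : e ≠ 0) {w : V} (hw : w ∈ O H a)
    (hwe : InD H D a w e) : w = a := by
  classical
  by_contra hwa
  have := h.finite
  have := h.finiteX
  obtain ⟨h5, -⟩ := h.key_a he he0 hw hwa hwe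
  let K : Subgroup (V ≃ₗ[ZMod 2] V) := YX H e
  have hKH : K ≤ H := fun f hf => hf.1
  refine h.no_orbit_five hKH (S := S H D a e) (v := a) ⟨a_mem_O, h.inD_a.2 he⟩ ?_ ?_ h5
  · rintro k ⟨hkH, hke⟩ u hu
    have := S_map hkH hu
    rwa [hke] at this
  · intro k hk
    by_cases hka : k = a
    · exact ⟨1, Subgroup.one_mem _, hka.symm⟩
    obtain ⟨u, hu, hua, huk⟩ : ∃ u ∈ S H D a e, u ≠ a ∧ u ≠ k := by
      by_contra hcon
      push Not at hcon
      have hsub : S H D a e ⊆ {a, k} := by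
        intro u hu
        by_cases hua : u = a
        · exact Or.inl hua
        · exact Or.inr (hcon u hu hua)
      have := Set.ncard_le_ncard hsub (Set.toFinite _)
      have h8 := Set.ncard_insert_le a {k}
      rw [Set.ncard_singleton] at h8
      omega
    obtain ⟨⟨g, hg, rfl⟩, hue⟩ := hu
    have hge : g⁻¹ e ∈ D := (h.inD_iff hg).1 hue
    have hge0 : g⁻¹ e ≠ 0 := by
      intro h1
      apply he0
      rw [← apply_inv_apply g e, h1, map_zero]
    have hS1 : g⁻¹ a ∈ S H D a (g⁻¹ e) := S_map (H.inv_mem hg) ⟨a_mem_O, h.inD_a.2 he⟩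
    have hS2 : g⁻¹ k ∈ S H D a (g⁻¹ e) := S_map (H.inv_mem hg) hk
    have hn1 : g⁻¹ a ≠ a := by
      intro h1
      apply hua
      conv_lhs => rw [← h1]
      exact apply_inv_apply g a
    have hn2 : g⁻¹ k ≠ a := by
      intro h1
      apply huk
      rw [← h1]
      exact apply_inv_apply g k
    obtain ⟨-, h6⟩ := h.key_a hge hge0 hS1.1 hn1 hS1.2
    obtain ⟨f, hf, hfe, hfk⟩ := h6 _ hS1 hn1 _ hS2 hn2
    refine ⟨g * f * g⁻¹, ⟨H.mul_mem (H.mul_mem hg hf) (H.inv_mem hg), ?_⟩, ?_⟩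
    · show g (f (g⁻¹ e)) = e
      rw [hfe, apply_inv_apply]
    · show g (f (g⁻¹ a)) = k
      rw [hfk, apply_inv_apply]

/-- `D_i ∩ D_j = 0` for `i ≠ j` -/
theorem uniq (h : Cfg b q H X D a) {e : V} (he0 : e ≠ 0) {i j : V} (hj : j ∈ O H a)
    (hie : InD H D a i e) (hje : InD H D a j e) : j = i := by
  obtain ⟨g, hg, rfl, hge⟩ := hie
  have hge0 : g⁻¹ e ≠ 0 := by
    intro h1
    apply he0
    rw [← apply_inv_apply g e, h1, map_zero]
  have h1 := h.uniq_a hge hge0 (map_mem_O (H.inv_mem hg) hj) (inD_map (H.inv_mem hg) hje)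
  rw [← h1, apply_inv_apply]

/-! ### counting singular vectors -/

theorem perp_D (h : Cfg b q H X D a) {v : V} (hv : v ∉ D) : ∃ d ∈ D, b v d = 1 := by
  have := h.finite
  by_contra hcon
  push Not at hcon
  have h1 := Cfsg.Agent.LargeExtra.Perp.card_orthogonal h.nondegenerate h.isRefl D
  have hle : D ≤ b.orthogonal D := fun v hv =>
    LinearMap.BilinForm.mem_orthogonal_iff.2 fun w hw => h.D_iso w hw v hv
  rw [h.card, h.card_D] at h1
  have h2 : Nat.card (b.orthogonal D) = 16 := by omega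
  have h3 : (D : Set V) = b.orthogonal D := by
    refine Set.eq_of_subset_of_ncard_le hle ?_ (Set.toFinite _)
    show Nat.card (b.orthogonal D) ≤ Nat.card D
    rw [h2, h.card_D]
  apply hv
  show v ∈ (D : Set V)
  rw [h3]
  refine LinearMap.BilinForm.mem_orthogonal_iff.2 fun d hd => ?_
  show b d v = 0
  rw [h.symm]
  by_contra h4
  exact hcon d hd (zm_ne h4)

theorem exists_delta (h : Cfg b q H X D a) :
    ∃ T : V → V, (∀ v, v ∉ D → T v ∉ D ∧ T (T v) = v ∧ q (T v) = q v + 1) := by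
  classical
  let δ : V ⧸ D → V := fun c =>
    if hc : ∃ d ∈ D, ∀ v, Submodule.Quotient.mk v = c → b v d = 1 then hc.choose else 0
  have hδ : ∀ v, v ∉ D → δ (Submodule.Quotient.mk v) ∈ D ∧ b v (δ (Submodule.Quotient.mk v)) = 1 := by
    intro v hv
    have hc : ∃ d ∈ D, ∀ u, Submodule.Quotient.mk u = (Submodule.Quotient.mk v : V ⧸ D) → b u d = 1 := by
      obtain ⟨d, hd, hvd⟩ := h.perp_D hv
      refine ⟨d, hd, fun u hu => ?_⟩
      have h1 : u - v ∈ D := (Submodule.Quotient.eq D).1 hu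
      have h2 := h.D_iso _ h1 _ hd
      rw [map_sub, LinearMap.sub_apply, sub_eq_zero] at h2
      rw [h2, hvd]
    simp only [δ, dif_pos hc]
    exact ⟨hc.choose_spec.1, hc.choose_spec.2 v rfl⟩
  refine ⟨fun v => v + δ (Submodule.Quotient.mk v), fun v hv => ?_⟩
  obtain ⟨h1, h2⟩ := hδ v hv
  have hT : (Submodule.Quotient.mk (v + δ (Submodule.Quotient.mk v)) : V ⧸ D) =
      Submodule.Quotient.mk v := by
    rw [Submodule.Quotient.eq]
    simpa using h1
  refine ⟨?_, ?_, ?_⟩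
  · intro h3
    apply hv
    have := D.sub_mem h3 h1
    simpa using this
  · simp only [hT]
    rw [add_assoc, add_self, add_zero]
  · simp only
    rw [h.q_add, h.D_q _ h1, h2, add_zero]

theorem card_singular_le (h : Cfg b q H X D a) : ({v | q v = 0} : Set V).ncard ≤ 136 := by
  classical
  have := h.finite
  obtain ⟨T, hT⟩ := h.exists_delta
  set A : Set V := {v | v ∉ D ∧ q v = 0} with hA
  set B : Set V := {v | q v = 1} with hB
  have h1 : A.ncard ≤ B.ncard := by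
    refine Set.ncard_le_ncard_of_injOn T ?_ ?_ (Set.toFinite _)
    · rintro v ⟨hv, hqv⟩
      show q (T v) = 1
      rw [(hT v hv).2.2, hqv, zero_add]
    · rintro u ⟨hu, -⟩ v ⟨hv, -⟩ huv
      rw [← (hT u hu).2.1, ← (hT v hv).2.1, huv]
  have h2 : ({v | q v = 0} : Set V).ncard + B.ncard = 256 := by
    have e : B = ({v | q v = 0} : Set V)ᶜ := by
      ext v
      show q v = 1 ↔ ¬ q v = 0
      rcases zm (q v) with h3 | h3 <;> rw [h3] <;> decide
    rw [e, Set.ncard_add_ncard_compl]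
    exact h.card
  have h3 : ({v | q v = 0} : Set V) = A ∪ (D : Set V) := by
    ext v
    constructor
    · intro hv
      by_cases hvD : v ∈ D
      · exact Or.inr hvD
      · exact Or.inl ⟨hvD, hv⟩
    · rintro (hv | hv)
      · exact hv.2
      · exact h.D_q v hv
  have h4 := Set.ncard_union_le A (D : Set V)
  rw [← h3] at h4
  have h5 : (D : Set V).ncard = 16 := h.card_D
  omega

/-- every singular vector lies in some `D_i` -/
theorem exists_D (h : Cfg b q H X D a) {v : V} (hv : q v = 0) :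
    ∃ i ∈ O H a, InD H D a i v := by
  classical
  have := h.finite
  by_cases hv0 : v = 0
  · exact ⟨a, a_mem_O, h.inD_a.2 (by rw [hv0]; exact D.zero_mem)⟩
  have hch : ∀ i : V, ∃ g : V ≃ₗ[ZMod 2] V, i ∈ O H a → g ∈ H ∧ g a = i := by
    intro i
    by_cases hi : i ∈ O H a
    · obtain ⟨g, hg, hgi⟩ := hi
      exact ⟨g, fun _ => ⟨hg, hgi⟩⟩
    · exact ⟨1, fun h1 => absurd h1 hi⟩
  choose g hg using hch
  set U : Set V := (fun p : V × V => g p.1 p.2) '' ((O H a) ×ˢ ((D : Set V) \ {0})) with hU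
  have h1 : U.ncard = 135 := by
    rw [hU, Set.InjOn.ncard_image, Set.ncard_prod, h.card_O,
      Set.ncard_diff_singleton_of_mem (show (0 : V) ∈ (D : Set V) from D.zero_mem)]
    · have h5 : (D : Set V).ncard = 16 := h.card_D
      rw [h5]
    · rintro ⟨i, d⟩ ⟨hi, hd, hd0⟩ ⟨j, d'⟩ ⟨hj, hd', hd0'⟩ heq
      have heq' : g i d = g j d' := heq
      have hi' := hg i hi
      have hj' := hg j hj
      have e1 : InD H D a i (g i d) := ⟨g i, hi'.1, hi'.2, by rw [inv_apply_apply]; exact hd⟩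
      have e2 : InD H D a j (g i d) := ⟨g j, hj'.1, hj'.2, by rw [heq', inv_apply_apply]; exact hd'⟩
      have e3 : g i d ≠ 0 := by
        intro h3
        apply hd0
        show d = 0
        rw [← inv_apply_apply (g i) d, h3, map_zero]
      have e4 : j = i := h.uniq e3 hj e1 e2
      subst e4
      rw [(g j).injective heq']
  have h2 : U ⊆ ({v | q v = 0} : Set V) \ {0} := by
    rintro _ ⟨⟨i, d⟩, ⟨hi, hd, hd0⟩, rfl⟩
    have hi' := hg i hi
    refine ⟨?_, ?_⟩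
    · show q (g i d) = 0
      rw [h.q_isom _ hi'.1]; exact h.D_q d hd
    · intro h3
      apply hd0
      have h4 : g i d = 0 := h3
      show d = 0
      rw [← inv_apply_apply (g i) d, h4, map_zero]
  have h3 := h.card_singular_le
  have h4 : (({v | q v = 0} : Set V) \ {0}).ncard + 1 = ({v | q v = 0} : Set V).ncard := by
    refine Set.ncard_diff_singleton_add_one ?_ (Set.toFinite _)
    exact h.D_q 0 D.zero_mem
  have h5 := Set.eq_of_subset_of_ncard_le h2 (by omega) (Set.toFinite _)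
  have h6 : v ∈ ({v | q v = 0} : Set V) \ {0} := ⟨hv, hv0⟩
  rw [← h5] at h6
  obtain ⟨⟨i, d⟩, ⟨hi, hd, -⟩, rfl⟩ := h6
  have hi' := hg i hi
  exact ⟨i, hi, g i, hi'.1, hi'.2, by rw [inv_apply_apply]; exact hd⟩

/-- a point off `a` orthogonal to a subspace of `D` not containing `a` -/
theorem exists_perp (h : Cfg b q H X D a) (W : Submodule (ZMod 2) V) (hW : W ≤ D) (ha : a ∉ W) :
    ∃ v ∈ O H a, v ≠ a ∧ ∀ e ∈ W, b e v = 0 := by
  obtain ⟨w, hw, hwa⟩ := h.exists_w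
  obtain ⟨ψ, hψa, hψW⟩ := Submodule.exists_le_ker_of_notMem ha
  have hψ1 : ψ a = 1 := zm_ne hψa
  have haw : b a w = 1 := h.b_O a_mem_O hw (Ne.symm hwa)
  let φ : V →ₗ[ZMod 2] ZMod 2 := b.flip w + ψ
  have hφ : ∀ v, φ v = b v w + ψ v := fun v => rfl
  obtain ⟨f, hf, hfD⟩ := h.exX φ (by rw [hφ, haw, hψ1]; decide)
  refine ⟨f w, map_mem_O (h.XH hf) hw, ?_, ?_⟩
  · intro h1
    exact hwa (f.injective (h1.trans (h.Xa f hf).symm))
  · intro e he
    have h1 := h.isom f (h.XH hf) (f e) w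
    have h2 : f (f e) = e := by
      show (f * f) e = e
      rw [h.Xsq f hf]; rfl
    rw [h2] at h1
    rw [h1, hfD e (hW he), map_add, LinearMap.add_apply, map_smul, LinearMap.smul_apply, haw,
      smul_eq_mul, mul_one, hφ]
    have h3 : ψ e = 0 := hψW he
    rw [h3, add_zero]
    exact add_self (V := ZMod 2) _

end Cfg

end Cfsg.Agent.TypeD4Two.NineV
end

-- part: TypeD4Two/Geo
section
/-!
# The closing theorem for groups like `³D₄(2)` (helper186)

`IsGeo P Q`: `P` is a class of involutions of `G` (the points) and `Q u ≤ C_G(u)` (for `u ∈ P`) an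
extraspecial-like group such that commuting points lie on lines `{u, v, uv}`, ...

* `claim`: if `E ≠ 1` is a subgroup of `Q u ∩ Q v` (`{u, v, uv}` a line) without points, then
  `C_G(E)` stabilises the line.
* `closing`: if moreover `C_G(z)` has odd index, `G = ⟨C_G(z), m⟩` for every `m` moving `z` to
  an adjacent point.
-/

set_option autoImplicit false

namespace Cfsg.Agent.TypeD4Two.Geo

variable {G : Type*} [Group G]

/-- adjacent points -/
def Adj (u v : G) : Prop := u * v = v * u ∧ u ≠ v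

/-- `x` lies on the line `{u, v, uv}` -/
def Onl (u v x : G) : Prop := x = u ∨ x = v ∨ x = u * v

structure IsGeo (P : Set G) (Q : G → Subgroup G) : Prop where
  ne_one : ∀ u ∈ P, u ≠ 1
  inv : ∀ u ∈ P, u * u = 1
  conj : ∀ g, ∀ u ∈ P, g * u * g⁻¹ ∈ P
  Qconj : ∀ g, ∀ u ∈ P, ∀ x ∈ Q u, g * x * g⁻¹ ∈ Q (g * u * g⁻¹)
  commz : ∀ u ∈ P, ∀ x ∈ Q u, x * u = u * x
  sq : ∀ u ∈ P, ∀ x ∈ Q u, x * x = 1 ∨ x * x = u
  mem_of_comm : ∀ u ∈ P, ∀ v ∈ P, u * v = v * u → v ∈ Q u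
  line : ∀ u ∈ P, ∀ v ∈ P, Adj u v → u * v ∈ P
  line_mem : ∀ u ∈ P, ∀ v ∈ P, Adj u v → ∀ w ∈ P, w ∈ Q u → w ∈ Q v → Onl u v w
  mem_mul : ∀ u ∈ P, ∀ v ∈ P, Adj u v → ∀ x ∈ Q u, x ∈ Q v → x ∈ Q (u * v)
  uniq : ∀ u ∈ P, ∀ v ∈ P, ∀ w ∈ P, Adj u v → Adj u w → ∀ e ∈ Q u, e ∈ Q v → e ∈ Q w →
    e ∉ P → e ≠ 1 → w = v ∨ w = u * v
  exists_line : ∀ u ∈ P, ∀ i ∈ Q u, i * i = 1 → i ≠ 1 → i ∉ P → ∃ v ∈ P, Adj u v ∧ i ∈ Q v
  fix_two : ∀ u ∈ P, ∀ v ∈ P, ∀ w ∈ P, Adj u v → Adj u w → w ≠ v → w ≠ u * v →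
    ∀ x, x * u = u * x → x * x ∈ Q u → (x * v * x⁻¹ = v ∨ x * v * x⁻¹ = u * v) →
    (x * w * x⁻¹ = w ∨ x * w * x⁻¹ = u * w) → x ∈ Q u
  outside : ∀ u ∈ P, ∀ i, i * i = 1 → i ≠ 1 → i * u = u * i → ∃ v ∈ P, u * v = v * u ∧ i ∈ Q v
  count : ∀ u ∈ P, ∀ v ∈ P, Adj u v → ∀ E : Subgroup G, (∀ e ∈ E, e ∈ Q u) → (∀ e ∈ E, e ∈ Q v) →
    (∀ e ∈ E, e ∉ P) → ∃ w ∈ P, Adj u w ∧ w ≠ v ∧ w ≠ u * v ∧ ∀ e ∈ E, e * w = w * e
  ntrans : ∀ u ∈ P, ∀ v ∈ P, ∀ w ∈ P, Adj u v → Adj u w → ∃ c, c * u = u * c ∧ c * v * c⁻¹ = w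

theorem conj_eq_self_iff {g x : G} : g * x * g⁻¹ = x ↔ g * x = x * g := mul_inv_eq_iff_eq_mul

theorem comm_conj {x y : G} (g : G) (h : x * y = y * x) :
    (g * x * g⁻¹) * (g * y * g⁻¹) = (g * y * g⁻¹) * (g * x * g⁻¹) := by
  calc (g * x * g⁻¹) * (g * y * g⁻¹) = g * (x * y) * g⁻¹ := by group
    _ = g * (y * x) * g⁻¹ := by rw [h]
    _ = _ := by group

theorem Adj.symm {u v : G} (h : Adj u v) : Adj v u := ⟨h.1.symm, h.2.symm⟩

theorem Adj.conj {u v : G} (h : Adj u v) (g : G) : Adj (g * u * g⁻¹) (g * v * g⁻¹) := by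
  refine ⟨comm_conj g h.1, fun he => h.2 ?_⟩
  exact mul_left_cancel (mul_right_cancel he)

/-- the dihedral argument modulo a central subgroup `E` -/
theorem dihedral_mod [Finite G] (E : Subgroup G) (w u : G) (hw : w * w = 1) (hu : u * u = 1)
    (hwE : ∀ e ∈ E, w * e = e * w) (huE : ∀ e ∈ E, u * e = e * u) :
    (∃ g, (∀ e ∈ E, g * e = e * g) ∧ ∃ e ∈ E, g * w * g⁻¹ = u * e) ∨
      (∃ j, j ∉ E ∧ j * j ∈ E ∧ (∀ e ∈ E, j * e = e * j) ∧ (∃ e ∈ E, j * w * j⁻¹ = w * e) ∧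
        (∃ e ∈ E, j * u * j⁻¹ = u * e)) := by
  classical
  set r := w * u with hr
  have hwi : w⁻¹ = w := inv_eq_of_mul_eq_one_left hw
  have hui : u⁻¹ = u := inv_eq_of_mul_eq_one_left hu
  have hex : ∃ n, 0 < n ∧ r ^ n ∈ E := ⟨orderOf r, orderOf_pos r, by rw [pow_orderOf_eq_one]; exact E.one_mem⟩
  set n := Nat.find hex with hn
  obtain ⟨hn0, hnE⟩ : 0 < n ∧ r ^ n ∈ E := Nat.find_spec hex
  have hmin : ∀ c, 0 < c → c < n → r ^ c ∉ E := fun c h0 h1 h2 => Nat.find_min hex h1 ⟨h0, h2⟩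
  have hrE : ∀ e ∈ E, Commute r e := fun e he => by
    show r * e = e * r
    rw [hr, mul_assoc, huE e he, ← mul_assoc, hwE e he, mul_assoc]
  have hrk : ∀ k : ℕ, ∀ e ∈ E, r ^ k * e = e * r ^ k := fun k e he => ((hrE e he).pow_left k).eq
  have h1 : w * r * w⁻¹ = r⁻¹ := by
    rw [hr, mul_inv_rev, hwi, hui, ← mul_assoc, hw, one_mul]
  have h2 : u * r * u⁻¹ = r⁻¹ := by
    rw [hr, mul_inv_rev, hwi, hui]
    calc u * (w * u) * u = u * w * (u * u) := by group
      _ = u * w := by rw [hu, mul_one]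
  have h1' : ∀ k : ℕ, w * r ^ k * w⁻¹ = (r ^ k)⁻¹ := fun k => by rw [← conj_pow, h1, inv_pow]
  have h2' : ∀ k : ℕ, u * r ^ k * u⁻¹ = (r ^ k)⁻¹ := fun k => by rw [← conj_pow, h2, inv_pow]
  have h3 : ∀ k : ℕ, r ^ k * w * (r ^ k)⁻¹ = r ^ (2 * k) * w := fun k => by
    rw [← h1' k, two_mul, pow_add]
    rw [hwi]
    calc r ^ k * w * (w * r ^ k * w) = r ^ k * (w * w) * r ^ k * w := by group
      _ = _ := by rw [hw, mul_one]
  have h4 : ∀ k : ℕ, r ^ k * u * (r ^ k)⁻¹ = r ^ (2 * k) * u := fun k => by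
    rw [← h2' k, two_mul, pow_add]
    rw [hui]
    calc r ^ k * u * (u * r ^ k * u) = r ^ k * (u * u) * r ^ k * u := by group
      _ = _ := by rw [hu, mul_one]
  rcases Nat.even_or_odd' n with ⟨c, hc | hc⟩
  · right
    have hc0 : 0 < c := by omega
    refine ⟨r ^ c, hmin c hc0 (by omega), ?_, hrk c, ⟨r ^ n, hnE, ?_⟩, ⟨r ^ n, hnE, ?_⟩⟩
    · rw [← pow_add, ← two_mul, ← hc]; exact hnE
    · rw [h3, ← hc, hwE _ hnE]
    · rw [h4, ← hc, huE _ hnE]
  · left
    refine ⟨r ^ c, hrk c, r ^ n, hnE, ?_⟩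
    rw [h3, huE _ hnE, hc, pow_succ, mul_assoc, hr]
    congr 1
    rw [mul_assoc, hu, mul_one]

/-- adjoining an involution to `E` -/
def ext (E : Subgroup G) (j : G) (hj : j * j = 1) (hjE : ∀ e ∈ E, j * e = e * j) : Subgroup G where
  carrier := {x | x ∈ E ∨ x * j ∈ E}
  one_mem' := Or.inl E.one_mem
  mul_mem' := by
    rintro x y (hx | hx) (hy | hy)
    · exact Or.inl (E.mul_mem hx hy)
    · right
      rw [mul_assoc]; exact E.mul_mem hx hy
    · right
      rw [mul_assoc, ← hjE y hy, ← mul_assoc]; exact E.mul_mem hx hy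
    · left
      have h1 : x * y = (x * j) * (y * j) := by
        have h2 := hjE _ hy
        calc x * y = x * (y * (j * j)) := by rw [hj, mul_one]
          _ = x * ((y * j) * j) := by group
          _ = x * (j * (y * j)) := by rw [h2]
          _ = _ := by group
      rw [h1]; exact E.mul_mem hx hy
  inv_mem' := by
    rintro x (hx | hx)
    · exact Or.inl (E.inv_mem hx)
    · right
      have h1 : x⁻¹ * j = (x * j)⁻¹ := by
        have h2 := hjE _ hx
        have hji : j⁻¹ = j := inv_eq_of_mul_eq_one_left hj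
        have h3 : j * x = x * j := by
          have h4 : j * (x * j) * j = x * j * j * j := by rw [h2]
          calc j * x = j * x * (j * j) := by rw [hj, mul_one]
            _ = j * (x * j) * j := by group
            _ = x * (j * j) * j := by rw [h4]; group
            _ = x * j := by rw [hj, mul_one]
        rw [← h3, mul_inv_rev, hji]
      rw [h1]; exact E.inv_mem hx

theorem mem_ext {E : Subgroup G} {j : G} {hj : j * j = 1} {hjE : ∀ e ∈ E, j * e = e * j} {x : G} :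
    x ∈ ext E j hj hjE ↔ x ∈ E ∨ x * j ∈ E := Iff.rfl

namespace IsGeo

variable {P : Set G} {Q : G → Subgroup G}

theorem onl_mem (h : IsGeo P Q) {u v x : G} (hu : u ∈ P) (hv : v ∈ P) (huv : Adj u v)
    (hx : Onl u v x) : x ∈ P := by
  rcases hx with rfl | rfl | rfl
  · exact hu
  · exact hv
  · exact h.line u hu v hv huv

theorem onl_comm {u v x : G} (huv : u * v = v * u) (hx : Onl u v x) : u * x = x * u := by
  rcases hx with rfl | rfl | rfl
  · rfl
  · exact huv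
  · rw [mul_assoc, huv]

theorem mul_cancel (h : IsGeo P Q) {u : G} (hu : u ∈ P) (v : G) : u * (u * v) = v := by
  rw [← mul_assoc, h.inv u hu, one_mul]

/-- a line from the point of view of one of its points -/
theorem pick (h : IsGeo P Q) {u v x : G} (hu : u ∈ P) (hv : v ∈ P) (huv : Adj u v)
    (hx : Onl u v x) : ∃ y ∈ P, Adj x y ∧ (∀ t, Onl x y t ↔ Onl u v t) ∧
      ∀ e ∈ Q u, e ∈ Q v → e ∈ Q x ∧ e ∈ Q y := by
  rcases hx with rfl | rfl | rfl
  · exact ⟨v, hv, huv, fun t => Iff.rfl, fun e h1 h2 => ⟨h1, h2⟩⟩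
  · refine ⟨u, hu, huv.symm, fun t => ?_, fun e h1 h2 => ⟨h2, h1⟩⟩
    unfold Onl
    rw [huv.1]
    (clear * -; tauto)
  · have h1 : u * v * u = v := by
      rw [huv.1, mul_assoc, h.inv u hu, mul_one]
    refine ⟨u, hu, ⟨?_, ?_⟩, fun t => ?_, fun e h1 h2 => ⟨h.mem_mul u hu v hv huv e h1 h2, h1⟩⟩
    · rw [h1, h.mul_cancel hu]
    · intro he
      have : v = 1 := mul_eq_left.1 he
      exact h.ne_one v hv this
    · unfold Onl
      rw [h1]
      (clear * -; tauto)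

/-- L1 -/
theorem onl_of_comm (h : IsGeo P Q) {z a e : G} (hz : z ∈ P) (ha : a ∈ P) (hza : Adj z a)
    (he1 : e ∈ Q z) (he2 : e ∈ Q a) (heP : e ∉ P) (he : e ≠ 1) {x : G} (hx : Onl z a x) {w : G}
    (hw : w ∈ P) (hxw : x * w = w * x) (hew : e ∈ Q w) : Onl z a w := by
  obtain ⟨y, hy, hxy, hon, hQ⟩ := h.pick hz ha hza hx
  have hxP := h.onl_mem hz ha hza hx
  by_cases hxw' : x = w
  · rw [← hxw']; exact hx
  · rw [← hon]
    obtain ⟨h1, h2⟩ := hQ e he1 he2
    rcases h.uniq x hxP y hy w hw hxy ⟨hxw, hxw'⟩ e h1 h2 hew heP he with h3 | h3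
    · exact Or.inr (Or.inl h3)
    · exact Or.inr (Or.inr h3)

/-- an involution normalising a line commutes with a point of it -/
theorem exists_fixed (h : IsGeo P Q) {z a w : G} (hz : z ∈ P) (hza : Adj z a)
    (hw : w * w = 1) (hn : ∀ x, Onl z a x → Onl z a (w * x * w⁻¹)) :
    ∃ x, Onl z a x ∧ x * w = w * x := by
  have hwi : w⁻¹ = w := inv_eq_of_mul_eq_one_left hw
  have hww : ∀ t, w * (w * t * w⁻¹) * w⁻¹ = t := fun t => by
    rw [hwi]
    calc w * (w * t * w) * w = (w * w) * t * (w * w) := by group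
      _ = t := by rw [hw]; group
  rcases hn z (Or.inl rfl) with h1 | h1 | h1
  · exact ⟨z, Or.inl rfl, (conj_eq_self_iff.1 h1).symm⟩
  · refine ⟨z * a, Or.inr (Or.inr rfl), ?_⟩
    have h2 : w * a * w⁻¹ = z := by rw [← h1, hww]
    have h3 : w * (z * a) * w⁻¹ = z * a := by
      calc w * (z * a) * w⁻¹ = (w * z * w⁻¹) * (w * a * w⁻¹) := by group
        _ = a * z := by rw [h1, h2]
        _ = z * a := hza.1.symm
    exact (conj_eq_self_iff.1 h3).symm
  · refine ⟨a, Or.inr (Or.inl rfl), ?_⟩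
    have h2 : w * (z * a) * w⁻¹ = z := by rw [← h1, hww]
    have h3 : w * a * w⁻¹ = a := by
      calc w * a * w⁻¹ = (w * z * w⁻¹)⁻¹ * (w * (z * a) * w⁻¹) := by group
        _ = (z * a)⁻¹ * z := by rw [h1, h2]
        _ = a⁻¹ := by rw [mul_inv_rev]; group
        _ = a := ?_
      -- `a⁻¹ = a`
      have h4 : (z * a) * (z * a) = 1 := by
        have h5 : (w * z * w⁻¹) * (w * z * w⁻¹) = 1 := by
          calc (w * z * w⁻¹) * (w * z * w⁻¹) = w * (z * z) * w⁻¹ := by group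
            _ = 1 := by rw [h.inv z hz]; group
        rw [h1] at h5; exact h5
      have h6 : a * a = 1 := by
        calc a * a = (z * z) * (a * a) := by rw [h.inv z hz, one_mul]
          _ = z * (z * a) * a := by group
          _ = z * (a * z) * a := by rw [hza.1]
          _ = (z * a) * (z * a) := by group
          _ = 1 := h4
      exact inv_eq_of_mul_eq_one_left h6
    exact (conj_eq_self_iff.1 h3).symm

/-- the Z*-step: `z` isolated in `X`, `w ∈ X` not commuting with `z` -/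
theorem zstar_step [Finite G] (X : Subgroup G) {z u w : G} (hz : z ∈ X) (hu : u ∈ X) (hw : w ∈ X)
    (hz1 : z ≠ 1) (hz2 : z * z = 1) (hu2 : u * u = 1) (hzu : z * u = u * z) (hzw : z * w ≠ w * z)
    (hiso : ∀ x ∈ X, z * (x * z * x⁻¹) = (x * z * x⁻¹) * z → x * z * x⁻¹ = z)
    (h1 : ∀ y ∈ X, Odd (orderOf y) → y * u = u * y → y * z = z * y)
    (h2 : ∀ y ∈ X, Odd (orderOf y) → y * (z * u) = (z * u) * y → y * z = z * y) : False := by
  classical
  set z' : X := ⟨z, hz⟩ with hz'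
  set u' : X := ⟨u, hu⟩ with hu'
  set w' : X := ⟨w, hw⟩ with hw'
  have hz2' : z' * z' = 1 := Subtype.ext hz2
  have hI : Cfsg.IsIsolatedInvolution z' := by
    refine ⟨orderOf_eq_prime (by rw [pow_two]; exact hz2') (fun h => hz1 (congrArg Subtype.val h)),
      fun g hg => ?_⟩
    apply Subtype.ext
    exact hiso g g.2 (congrArg Subtype.val hg.eq)
  have hI' : Cfsg.Agent.Involutions.ZStar.Iso z' := by
    refine ⟨hz2', fun g => ?_⟩
    have h3 := Cfsg.Agent.TwoFusion.Isolated.odd_orderOf_conj_mul hI g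
    have h4 : z' * (g * z' * g⁻¹) = z' * (g * z' * g⁻¹ * z') * z'⁻¹ := by group
    rw [h4]
    have h5 : orderOf (z' * (g * z' * g⁻¹ * z') * z'⁻¹) = orderOf (g * z' * g⁻¹ * z') :=
      orderOf_injective (MulAut.conj z').toMonoidHom (MulAut.conj z').injective _
    rw [h5]; exact h3
  have hcomm := Cfsg.Agent.S0215.iso_commutator z' hI'
  set N : Subgroup X := Cfsg.pPrimeCore 2 X with hN
  have hNn : N.Normal := Cfsg.Agent.Lib.Cores.pPrimeCore_normal 2
  have hNodd : Odd (Nat.card N) := Nat.coprime_two_right.mp (Cfsg.Agent.Lib.Cores.pPrimeCore_coprime 2)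
  have hodd : ∀ y ∈ N, Odd (orderOf (y : G)) := by
    intro y hy
    have h3 : orderOf (⟨y, hy⟩ : N) ∣ Nat.card N := orderOf_dvd_natCard _
    have h4 : orderOf (⟨y, hy⟩ : N) = orderOf (y : G) := by
      rw [← Subgroup.orderOf_coe, ← Subgroup.orderOf_coe]
    rw [← h4]
    exact Odd.of_dvd_nat hNodd h3
  have hle : N ≤ Subgroup.centralizer {z'} := by
    refine Cfsg.Agent.Lib.KleinGen.le_of_klein N _ hNodd z' u' hz2' (Subtype.ext hu2)
      (Subtype.ext hzu) (fun x hx => hNn.conj_mem x hx _) (fun x hx => hNn.conj_mem x hx _)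
      inf_le_right ?_ ?_
    · rintro y ⟨hyN, hyc⟩
      rw [Subgroup.mem_centralizer_singleton_iff]
      apply Subtype.ext
      exact h1 y y.2 (hodd y hyN) (congrArg Subtype.val (Subgroup.mem_centralizer_singleton_iff.1 hyc))
    · rintro y ⟨hyN, hyc⟩
      rw [Subgroup.mem_centralizer_singleton_iff]
      apply Subtype.ext
      exact h2 y y.2 (hodd y hyN) (congrArg Subtype.val (Subgroup.mem_centralizer_singleton_iff.1 hyc))
  -- the commutator `[z, w]`
  set c : X := z' * w' * z'⁻¹ * w'⁻¹ with hc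
  have hcN : c ∈ N := hcomm w'
  have hzi : z'⁻¹ = z' := inv_eq_of_mul_eq_one_left hz2'
  have hcz : c * z' = z' * c := Subgroup.mem_centralizer_singleton_iff.1 (hle hcN)
  have hcc : c * c = 1 := by
    have h3 : z' * c * z'⁻¹ = c := by rw [← hcz]; group
    have h4 : z' * c * z'⁻¹ = c⁻¹ := by
      rw [hc, hzi]
      calc z' * (z' * w' * z' * w'⁻¹) * z' = (z' * z') * w' * z' * w'⁻¹ * z' := by group
        _ = w' * z' * w'⁻¹ * z' := by rw [hz2', one_mul]
        _ = w' * z'⁻¹ * w'⁻¹ * z'⁻¹ := by rw [hzi]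
        _ = (z' * w' * z' * w'⁻¹)⁻¹ := by group
    rw [h3] at h4
    calc c * c = c⁻¹ * c := by rw [← h4]
      _ = 1 := by group
  have hc1 : c = 1 := by
    have h3 := hodd c hcN
    have h4 : orderOf (c : G) ∣ 2 := orderOf_dvd_of_pow_eq_one (by rw [pow_two]; exact congrArg Subtype.val hcc)
    have h5 : orderOf (c : G) = 1 := by
      rcases (Nat.dvd_prime Nat.prime_two).1 h4 with h6 | h6
      · exact h6
      · rw [h6] at h3; exact absurd h3 (by decide)
    exact Subtype.ext (orderOf_eq_one_iff.1 h5)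
  apply hzw
  have h3 : z' * w' = w' * z' := by
    rw [hc, hzi] at hc1
    calc z' * w' = (z' * w' * z' * w'⁻¹) * w' * z'⁻¹ := by group
      _ = w' * z' := by rw [hc1, hzi, one_mul]
  exact congrArg Subtype.val h3

theorem card_lt_ext [Finite G] {E : Subgroup G} {j : G} {hj : j * j = 1}
    {hjE : ∀ e ∈ E, j * e = e * j} (hjn : j ∉ E) : Nat.card E < Nat.card (ext E j hj hjE) := by
  by_contra hcon
  have hle : E ≤ ext E j hj hjE := fun x hx => Or.inl hx
  have := Subgroup.eq_of_le_of_card_ge hle (not_lt.1 hcon)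
  apply hjn
  rw [this, mem_ext, hj]
  exact Or.inr E.one_mem

/-- the core of the claim -/
theorem core [Finite G] (h : IsGeo P Q) {z a : G} (hz : z ∈ P) (ha : a ∈ P) (hza : Adj z a)
    (E : Subgroup G) (hEz : ∀ e ∈ E, e ∈ Q z) (hEa : ∀ e ∈ E, e ∈ Q a) (hEP : ∀ e ∈ E, e ∉ P)
    (hE1 : ∃ e ∈ E, e ≠ 1)
    (hIH : ∀ F : Subgroup G, Nat.card E < Nat.card F → (∀ e ∈ F, e ∈ Q z) → (∀ e ∈ F, e ∈ Q a) →
      (∀ e ∈ F, e ∉ P) → (∃ e ∈ F, e ≠ 1) → ∀ k, (∀ e ∈ F, k * e = e * k) →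
        ∀ x, Onl z a x → Onl z a (k * x * k⁻¹))
    {k : G} (hk : ∀ e ∈ E, k * e = e * k) (hkn : ¬ Onl z a (k * z * k⁻¹)) : False := by
  obtain ⟨e₀, he₀, he₀1⟩ := hE1
  set w := k * z * k⁻¹ with hw
  have hwP : w ∈ P := h.conj k z hz
  have hww := h.inv w hwP
  -- `E ≤ Q w`, `w` commutes with `E`
  have hEw : ∀ e ∈ E, e ∈ Q w := by
    intro e he
    have h1 := h.Qconj k z hz e (hEz e he)
    have h2 : k * e * k⁻¹ = e := conj_eq_self_iff.2 (hk e he)
    rwa [h2] at h1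
  have hwE : ∀ e ∈ E, w * e = e * w := fun e he => (h.commz w hwP e (hEw e he)).symm
  have hL1 : ∀ x, Onl z a x → x * w ≠ w * x := by
    intro x hx hxw
    exact hkn (h.onl_of_comm hz ha hza (hEz e₀ he₀) (hEa e₀ he₀) (hEP e₀ he₀) he₀1 hx hwP hxw
      (hEw e₀ he₀))
  -- (i)
  have hwn : ¬ ∀ x, Onl z a x → Onl z a (w * x * w⁻¹) := by
    intro hn
    obtain ⟨x, hx, hxw⟩ := h.exists_fixed hz hza hww hn
    exact hL1 x hx hxw
  have hzw : z * w ≠ w * z := hL1 z (Or.inl rfl)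
  -- (iii) the point `u`
  obtain ⟨u, hu, hzu, hua, huza, huE⟩ := h.count z hz a ha hza E hEz hEa hEP
  have huu := h.inv u hu
  have hzz := h.inv z hz
  have hzuP : z * u ∈ P := h.line z hz u hu hzu
  have hzzu : Adj z (z * u) := by
    refine ⟨by rw [mul_assoc, hzu.1], fun he => h.ne_one u hu ?_⟩
    exact mul_eq_left.1 he.symm
  have hadjzu : Adj (z * u) u := by
    refine ⟨?_, fun he => h.ne_one z hz (mul_eq_right.1 he)⟩
    rw [← mul_assoc u z u, ← hzu.1]
  -- (iii.1)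
  have h31 : ∀ e ∈ E, e ≠ 1 → e ∉ Q u := by
    intro e he he1 heu
    rcases h.uniq z hz a ha u hu hza hzu e (hEz e he) (hEa e he) heu (hEP e he) he1 with h3 | h3
    · exact hua h3
    · exact huza h3
  have h31' : ∀ e ∈ E, e ≠ 1 → e ∉ Q (z * u) := by
    intro e he he1 heu
    rcases h.uniq z hz a ha (z * u) hzuP hza hzzu e (hEz e he) (hEa e he) heu (hEP e he) he1
      with h3 | h3
    · apply huza
      rw [← h3, h.mul_cancel hz]
    · exact hua (mul_left_cancel h3)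
  -- (iii.2)
  have h32 : ∀ p ∈ P, Adj p z → (∀ e ∈ E, e ≠ 1 → e ∉ Q p) → (∀ e ∈ E, e * p = p * e) →
      ∀ r ∈ P, Adj p r → (∀ e ∈ E, e * r = r * e) → r = z ∨ r = p * z := by
    intro p hp hpz hpE hEp r hr hpr hEr
    by_contra hcon
    push Not at hcon
    refine hpE e₀ he₀ he₀1 (h.fix_two p hp z hz r hr hpz hpr hcon.1 hcon.2 e₀ (hEp e₀ he₀) ?_ ?_ ?_)
    · have h3 : e₀ * e₀ ∈ E := E.mul_mem he₀ he₀
      rcases h.sq z hz e₀ (hEz e₀ he₀) with h4 | h4
      · rw [h4]; exact (Q p).one_mem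
      · exact absurd hz (h4 ▸ hEP _ h3)
    · left; exact conj_eq_self_iff.2 (h.commz z hz e₀ (hEz e₀ he₀))
    · left; exact conj_eq_self_iff.2 (hEr e₀ he₀)
  have hEzc : ∀ e ∈ E, e * z = z * e := fun e he => h.commz z hz e (hEz e he)
  have hEzu : ∀ e ∈ E, e * (z * u) = (z * u) * e := by
    intro e he
    rw [← mul_assoc, hEzc e he, mul_assoc, huE e he, mul_assoc]
  have h32u := h32 u hu hzu.symm h31 huE
  have h32zu := h32 (z * u) hzuP hzzu.symm h31' hEzu
  have hzuz : z * u * z = u := by rw [hzu.1, mul_assoc, hzz, mul_one]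
  rw [hzuz] at h32zu
  -- (iii.3)
  have h33u : u * w ≠ w * u := by
    intro huw
    by_cases hne : u = w
    · exact hzw (by rw [← hne]; exact hzu.1)
    · rcases h32u w hwP ⟨huw, hne⟩ (fun e he => (hwE e he).symm) with h3 | h3
      · exact hzw (by rw [h3])
      · exact hzw (by rw [h3, ← mul_assoc, hzu.1])
  have h33zu : (z * u) * w ≠ w * (z * u) := by
    intro huw
    by_cases hne : z * u = w
    · exact hzw (by rw [← hne, h.mul_cancel hz, hzuz])
    · rcases h32zu w hwP ⟨huw, hne⟩ (fun e he => (hwE e he).symm) with h3 | h3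
      · exact hzw (by rw [h3])
      · exact hzw (by rw [h3]; exact hzu.1)
  -- elements `u e ∈ P`, `e ∈ E`
  have hue : ∀ e ∈ E, u * e ∈ P → e = 1 := by
    intro e he hueP
    by_contra he1
    apply h31 e he he1
    have h3 : u * (u * e) = u * e * u := by rw [mul_assoc, huE e he]
    have h4 := h.mem_of_comm u hu (u * e) hueP h3
    have h5 : e = u * (u * e) := (h.mul_cancel hu e).symm
    rw [h5]
    exact (Q u).mul_mem (h.mem_of_comm u hu u hu rfl) h4
  -- (iv)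
  rcases dihedral_mod E w u hww huu hwE (fun e he => (huE e he).symm) with
    ⟨g, hg, e, he, hge⟩ | ⟨j, hjn, hjj, hjE, ⟨e, he, hje⟩, e', he', hje'⟩
  · have h3 : u * e ∈ P := hge ▸ h.conj g w hwP
    have h4 := hue e he h3
    rw [h4, mul_one] at hge
    apply h31 e₀ he₀ he₀1
    have h5 := h.Qconj g w hwP e₀ (hEw e₀ he₀)
    rw [hge, conj_eq_self_iff.2 (hg e₀ he₀)] at h5
    exact h5
  -- (v)
  have hju : j * u = u * j := by
    have h3 : u * e' ∈ P := hje' ▸ h.conj j u hu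
    have h4 := hue e' he' h3
    rw [h4, mul_one] at hje'
    exact conj_eq_self_iff.1 hje'
  have hjw : j * w = w * j := by
    have h3 : w * e ∈ P := hje ▸ h.conj j w hwP
    have h4 : z * e ∈ P := by
      have h5 := h.conj k⁻¹ _ h3
      have h6 : k⁻¹ * (w * e) * k⁻¹⁻¹ = z * e := by
        have h7 := hk e he
        calc k⁻¹ * (w * e) * k⁻¹⁻¹ = k⁻¹ * (k * z * k⁻¹) * (e * k) := by rw [hw]; group
          _ = k⁻¹ * (k * z * k⁻¹) * (k * e) := by rw [h7]
          _ = z * e := by group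
      rwa [h6] at h5
    have h5 : z * e ∈ Q z := (Q z).mul_mem (h.mem_of_comm z hz z hz rfl) (hEz e he)
    have h6 : z * e ∈ Q a := (Q a).mul_mem (h.mem_of_comm a ha z hz hza.1.symm) (hEa e he)
    have h7 : e = 1 := by
      rcases h.line_mem z hz a ha hza (z * e) h4 h5 h6 with h8 | h8 | h8
      · exact mul_eq_left.1 h8
      · exfalso
        apply hEP e he
        have : e = z * a := by rw [← h8, h.mul_cancel hz]
        rw [this]; exact h.line z hz a ha hza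
      · exfalso
        apply hEP e he
        rw [mul_left_cancel h8]; exact ha
    rw [h7, mul_one] at hje
    exact conj_eq_self_iff.1 hje
  -- (vi)
  have hjz : j * z = z * j := by
    have hP : j * z * j⁻¹ ∈ P := h.conj j z hz
    have h3 : Adj u (j * z * j⁻¹) := by
      have := hzu.symm.conj j
      rwa [conj_eq_self_iff.2 hju] at this
    have h4 : ∀ e ∈ E, e * (j * z * j⁻¹) = (j * z * j⁻¹) * e := by
      intro e he
      have := comm_conj j (hEzc e he)
      rwa [conj_eq_self_iff.2 (hjE e he)] at this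
    rcases h32u _ hP h3 h4 with h5 | h5
    · exact conj_eq_self_iff.1 h5
    · exfalso
      have h6 := h.Qconj j z hz e₀ (hEz e₀ he₀)
      rw [conj_eq_self_iff.2 (hjE e₀ he₀), h5, ← hzu.1] at h6
      exact h31' e₀ he₀ he₀1 h6
  -- (vii)
  have hja : j * a * j⁻¹ = a ∨ j * a * j⁻¹ = z * a := by
    have hP : j * a * j⁻¹ ∈ P := h.conj j a ha
    have h3 : Adj z (j * a * j⁻¹) := by
      have := hza.conj j
      rwa [conj_eq_self_iff.2 hjz] at this
    have h6 := h.Qconj j a ha e₀ (hEa e₀ he₀)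
    rw [conj_eq_self_iff.2 (hjE e₀ he₀)] at h6
    exact h.uniq z hz a ha _ hP hza h3 e₀ (hEz e₀ he₀) (hEa e₀ he₀) h6 (hEP e₀ he₀) he₀1
  have hjQ : j ∈ Q z := by
    refine h.fix_two z hz a ha u hu hza hzu hua huza j hjz (hEz _ hjj) hja ?_
    left; exact conj_eq_self_iff.2 hju
  -- (viii)
  have hj2 : j * j = 1 := by
    rcases h.sq z hz j hjQ with h3 | h3
    · exact h3
    · exact absurd hz (h3 ▸ hEP _ hjj)
  have hji : j⁻¹ = j := inv_eq_of_mul_eq_one_left hj2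
  -- (ix)
  set F := ext E j hj2 hjE with hF
  have hEF : ∀ e ∈ E, e ∈ F := fun e he => Or.inl he
  have hjF : j ∈ F := by rw [hF, mem_ext, hj2]; exact Or.inr E.one_mem
  have hcF : ∀ g, (∀ e ∈ E, e * g = g * e) → j * g = g * j → ∀ f ∈ F, f * g = g * f := by
    intro g hg hgj f hf
    rcases hf with hf | hf
    · exact hg f hf
    · have h3 := hg _ hf
      have h4 : f = (f * j) * j := by rw [mul_assoc, hj2, mul_one]
      rw [h4, mul_assoc, hgj, ← mul_assoc, h3, mul_assoc]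
  have hFz : ∀ f ∈ F, f ∈ Q z := by
    rintro f (hf | hf)
    · exact hEz f hf
    · have h4 : f = (f * j) * j := by rw [mul_assoc, hj2, mul_one]
      rw [h4]; exact (Q z).mul_mem (hEz _ hf) hjQ
  have hFu := hcF u huE hju
  have hFw := hcF w (fun e he => (hwE e he).symm) hjw
  have hFzc := hcF z hEzc hjz
  have hEF' : ∀ f ∈ F, ∀ e ∈ E, e * f = f * e := by
    intro f hf e he
    refine (hcF e (fun e' he' => ?_) (hjE e he) f hf).symm
    -- `E` is abelian
    have h3 : ∀ x ∈ E, x * x = 1 := by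
      intro x hx
      rcases h.sq z hz x (hEz x hx) with h4 | h4
      · exact h4
      · exact absurd hz (h4 ▸ hEP _ (E.mul_mem hx hx))
    have h4 : ∀ x ∈ E, x⁻¹ = x := fun x hx => inv_eq_of_mul_eq_one_left (h3 x hx)
    have h5 := h4 _ (E.mul_mem he' he)
    rw [mul_inv_rev, h4 _ he', h4 _ he] at h5
    exact h5.symm
  have hFP : ∀ f ∈ F, f ∉ P := by
    intro f hf hfP
    by_cases hfu : u = f
    · exact h33u (by rw [hfu]; exact hFw f hf)
    · rcases h32u f hfP ⟨(hFu f hf).symm, hfu⟩ (hEF' f hf) with h3 | h3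
      · exact hzw (by rw [← h3]; exact hFw f hf)
      · rw [← hzu.1] at h3
        exact h33zu (by rw [← h3]; exact hFw f hf)
  have hF1 : ∃ e ∈ F, e ≠ 1 := ⟨e₀, hEF e₀ he₀, he₀1⟩
  by_cases hjQa : j ∈ Q a
  · -- (x)
    have hFa : ∀ f ∈ F, f ∈ Q a := by
      rintro f (hf | hf)
      · exact hEa f hf
      · have h4 : f = (f * j) * j := by rw [mul_assoc, hj2, mul_one]
        rw [h4]; exact (Q a).mul_mem (hEa _ hf) hjQa
    exact hwn (hIH F (card_lt_ext hjn) hFz hFa hFP hF1 w (fun e he => (hFw e he).symm))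
  · -- (xi)
    have hmemX : ∀ g, (∀ f ∈ F, f * g = g * f) → g ∈ Subgroup.centralizer (F : Set G) := by
      intro g hg
      rw [Subgroup.mem_centralizer_iff]
      exact hg
    have hXc : ∀ g ∈ Subgroup.centralizer (F : Set G), ∀ f ∈ F, f * g = g * f := by
      intro g hg
      rw [Subgroup.mem_centralizer_iff] at hg
      exact hg
    have hXconj : ∀ g ∈ Subgroup.centralizer (F : Set G), ∀ f ∈ F, g * f * g⁻¹ = f :=
      fun g hg f hf => conj_eq_self_iff.2 (hXc g hg f hf).symm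
    refine zstar_step (Subgroup.centralizer (F : Set G)) (hmemX z hFzc) (hmemX u hFu) (hmemX w hFw)
      (h.ne_one z hz) hzz huu hzu.1 hzw ?_ ?_ ?_
    · intro x hx hcom
      by_contra hne
      have hvP : x * z * x⁻¹ ∈ P := h.conj x z hz
      have hFv : ∀ f ∈ F, f ∈ Q (x * z * x⁻¹) := by
        intro f hf
        have := h.Qconj x z hz f (hFz f hf)
        rwa [hXconj x hx f hf] at this
      have hadj : Adj z (x * z * x⁻¹) := ⟨hcom, fun h' => hne h'.symm⟩
      rcases h.uniq z hz a ha _ hvP hza hadj e₀ (hEz e₀ he₀) (hEa e₀ he₀) (hFv e₀ (hEF e₀ he₀))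
        (hEP e₀ he₀) he₀1 with h3 | h3
      · apply hjQa
        rw [← h3]; exact hFv j hjF
      · apply hjQa
        have h4 := h.mem_mul z hz _ hvP hadj j hjQ (hFv j hjF)
        rw [h3, h.mul_cancel hz] at h4
        exact h4
    · intro y hy _ hyu
      have hyE : ∀ e ∈ E, y * e * y⁻¹ = e := fun e he => hXconj y hy e (hEF e he)
      have hP : y * z * y⁻¹ ∈ P := h.conj y z hz
      have h3 : Adj u (y * z * y⁻¹) := by
        have := hzu.symm.conj y
        rwa [conj_eq_self_iff.2 hyu] at this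
      have h4 : ∀ e ∈ E, e * (y * z * y⁻¹) = (y * z * y⁻¹) * e := by
        intro e he
        have := comm_conj y (hEzc e he)
        rwa [hyE e he] at this
      rcases h32u _ hP h3 h4 with h5 | h5
      · exact conj_eq_self_iff.1 h5
      · exfalso
        have h6 := h.Qconj y z hz e₀ (hEz e₀ he₀)
        rw [hyE e₀ he₀, h5, ← hzu.1] at h6
        exact h31' e₀ he₀ he₀1 h6
    · intro y hy _ hyu
      have hyE : ∀ e ∈ E, y * e * y⁻¹ = e := fun e he => hXconj y hy e (hEF e he)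
      have hP : y * z * y⁻¹ ∈ P := h.conj y z hz
      have h3 : Adj (z * u) (y * z * y⁻¹) := by
        have := hzzu.symm.conj y
        rwa [conj_eq_self_iff.2 hyu] at this
      have h4 : ∀ e ∈ E, e * (y * z * y⁻¹) = (y * z * y⁻¹) * e := by
        intro e he
        have := comm_conj y (hEzc e he)
        rwa [hyE e he] at this
      rcases h32zu _ hP h3 h4 with h5 | h5
      · exact conj_eq_self_iff.1 h5
      · exfalso
        have h6 := h.Qconj y z hz e₀ (hEz e₀ he₀)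
        rw [hyE e₀ he₀, h5] at h6
        exact h31 e₀ he₀ he₀1 h6

/-- (5) `C_G(E)` stabilises the line. -/
theorem claim [Finite G] (h : IsGeo P Q) : ∀ (n : ℕ) (E : Subgroup G) (u v : G),
    Nat.card G ≤ Nat.card E + n → u ∈ P → v ∈ P → Adj u v → (∀ e ∈ E, e ∈ Q u) →
    (∀ e ∈ E, e ∈ Q v) → (∀ e ∈ E, e ∉ P) → (∃ e ∈ E, e ≠ 1) → ∀ k, (∀ e ∈ E, k * e = e * k) →
    ∀ x, Onl u v x → Onl u v (k * x * k⁻¹) := by
  intro n
  induction n using Nat.strong_induction_on with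
  | _ n ih =>
    intro E u v hn hu hv huv hEu hEv hEP hE1 k hk x hx
    by_contra hcon
    obtain ⟨y, hy, hxy, hon, hQ⟩ := h.pick hu hv huv hx
    have hxP := h.onl_mem hu hv huv hx
    refine h.core hxP hy hxy E (fun e he => (hQ e (hEu e he) (hEv e he)).1)
      (fun e he => (hQ e (hEu e he) (hEv e he)).2) hEP hE1 ?_ (k := k) hk
      (fun hc => hcon ((hon _).1 hc))
    intro F hlt hFx hFy hFP hF1 k' hk' t ht
    have hcF : Nat.card F ≤ Nat.card G := Subgroup.card_le_card_group F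
    have hn0 : 0 < n := by omega
    exact ih (n - 1) (by omega) F x y (by omega) hxP hy hxy hFx hFy hFP hF1 k' hk' t ht

theorem claim_single [Finite G] (h : IsGeo P Q) {u v i : G} (hu : u ∈ P) (hv : v ∈ P)
    (huv : Adj u v) (hiu : i ∈ Q u) (hiv : i ∈ Q v) (hiP : i ∉ P) (hi : i ≠ 1) (hii : i * i = 1)
    {k : G} (hk : k * i = i * k) : Onl u v (k * u * k⁻¹) := by
  have hmem : ∀ e ∈ Subgroup.zpowers i, e = 1 ∨ e = i := by
    rintro e ⟨m, rfl⟩
    rcases Int.even_or_odd' m with ⟨c, rfl | rfl⟩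
    · left
      show i ^ (2 * c) = 1
      rw [zpow_mul, zpow_two, hii, one_zpow]
    · right
      show i ^ (2 * c + 1) = i
      rw [zpow_add, zpow_mul, zpow_two, hii, one_zpow, zpow_one, one_mul]
  have h1P : (1 : G) ∉ P := fun h1 => h.ne_one 1 h1 rfl
  refine h.claim (Nat.card G) (Subgroup.zpowers i) u v (Nat.le_add_left _ _) hu hv huv ?_ ?_ ?_
    ⟨i, Subgroup.mem_zpowers i, hi⟩ k ?_ u (Or.inl rfl)
  · intro e he
    rcases hmem e he with rfl | rfl
    · exact (Q u).one_mem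
    · exact hiu
  · intro e he
    rcases hmem e he with rfl | rfl
    · exact (Q v).one_mem
    · exact hiv
  · intro e he
    rcases hmem e he with rfl | rfl
    · exact h1P
    · exact hiP
  · intro e he
    rcases hmem e he with rfl | rfl
    · rw [mul_one, one_mul]
    · exact hk

/-- The closing theorem. -/
theorem closing [Finite G] (h : IsGeo P Q) {z a : G} (hz : z ∈ P) (ha : a ∈ P) (hza : Adj z a)
    (hodd : Odd (Subgroup.centralizer ({z} : Set G)).index)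
    (hb : ∃ b, b * b = 1 ∧ b ≠ 1 ∧ b ∉ P ∧ b * z = z * b) (H : Subgroup G)
    (hCH : Subgroup.centralizer ({z} : Set G) ≤ H) {m : G} (hmH : m ∈ H) (hm : m * z * m⁻¹ = a) :
    H = ⊤ := by
  classical
  have hcz : ∀ c, c * z = z * c → c ∈ H :=
    fun c hc => hCH (Subgroup.mem_centralizer_singleton_iff.2 hc)
  -- (1)
  have h1 : ∀ t ∈ H, ∀ w ∈ P, (t * z * t⁻¹) * w = w * (t * z * t⁻¹) → ∃ s ∈ H, s * z * s⁻¹ = w := by
    intro t ht w hw hcom
    by_cases hne : z = t⁻¹ * w * t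
    · refine ⟨t, ht, ?_⟩
      rw [hne]; group
    · have hw' : t⁻¹ * w * t ∈ P := by
        have := h.conj t⁻¹ w hw
        rwa [inv_inv] at this
      have hadj : Adj z (t⁻¹ * w * t) := by
        refine ⟨?_, hne⟩
        have := comm_conj t⁻¹ hcom
        rw [inv_inv] at this
        have e1 : t⁻¹ * (t * z * t⁻¹) * t = z := by group
        rwa [e1] at this
      obtain ⟨c, hc1, hc2⟩ := h.ntrans z hz a ha _ hw' hza hadj
      refine ⟨t * c * m, H.mul_mem (H.mul_mem ht (hcz c hc1)) hmH, ?_⟩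
      calc t * c * m * z * (t * c * m)⁻¹ = t * (c * (m * z * m⁻¹) * c⁻¹) * t⁻¹ := by group
        _ = t * (t⁻¹ * w * t) * t⁻¹ := by rw [hm, hc2]
        _ = w := by group
  -- (2)
  have h2 : ∀ t ∈ H, ∀ g, g * (t * z * t⁻¹) = (t * z * t⁻¹) * g → g ∈ H := by
    intro t ht g hg
    have h3 : (t⁻¹ * g * t) * z = z * (t⁻¹ * g * t) := by
      calc (t⁻¹ * g * t) * z = t⁻¹ * (g * (t * z * t⁻¹)) * t := by group
        _ = t⁻¹ * ((t * z * t⁻¹) * g) * t := by rw [hg]
        _ = _ := by group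
    have h4 := H.mul_mem (H.mul_mem ht (hcz _ h3)) (H.inv_mem ht)
    have e1 : t * (t⁻¹ * g * t) * t⁻¹ = g := by group
    rwa [e1] at h4
  -- (3)
  have h3 : ∀ i ∈ H, i * i = 1 → ∃ t ∈ H, i * (t * z * t⁻¹) = (t * z * t⁻¹) * i := by
    intro i hi hii
    set C := (Subgroup.centralizer ({z} : Set G)).subgroupOf H with hC
    have hCodd : ¬ 2 ∣ Nat.card (H ⧸ C) := by
      have h4 : C.index ∣ (Subgroup.centralizer ({z} : Set G)).index :=
        Subgroup.relIndex_dvd_index_of_le hCH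
      have h5 : Odd C.index := Odd.of_dvd_nat hodd h4
      rw [← Subgroup.index_eq_card]
      intro h6
      exact (Nat.not_even_iff_odd.2 h5) (even_iff_two_dvd.2 h6)
    set i' : H := ⟨i, hi⟩ with hi'
    have hp : IsPGroup 2 (Subgroup.zpowers i') :=
      Cfsg.Agent.Lib.ClosingTI.isPGroup_zpowers i' 1 (by rw [pow_one, pow_two]; exact Subtype.ext hii)
    obtain ⟨q, hq⟩ := hp.nonempty_fixed_point_of_prime_not_dvd_card (H ⧸ C) hCodd
    obtain ⟨t, rfl⟩ := QuotientGroup.mk_surjective q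
    have h6 := MulAction.mem_fixedPoints.1 hq ⟨i', Subgroup.mem_zpowers i'⟩
    have h7 : (QuotientGroup.mk (i' * t) : H ⧸ C) = QuotientGroup.mk t := h6
    rw [QuotientGroup.eq] at h7
    have h8 : ((i * t)⁻¹ * t : G) * z = z * ((i * t)⁻¹ * t) :=
      Subgroup.mem_centralizer_singleton_iff.1 (Subgroup.mem_subgroupOf.1 h7)
    refine ⟨t, t.2, ?_⟩
    have hii' : i⁻¹ = i := inv_eq_of_mul_eq_one_left hii
    rw [mul_inv_rev, hii'] at h8
    calc i * (t * z * (t : G)⁻¹) = t * (((t : G)⁻¹ * i * t) * z) * (t : G)⁻¹ := by group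
      _ = t * (z * ((t : G)⁻¹ * i * t)) * (t : G)⁻¹ := by rw [h8]
      _ = _ := by group
  -- (4)
  have h4 : ∀ i ∈ H, i ≠ 1 → i * i = 1 → ∀ g : G, g * i * g⁻¹ = i → g ∈ H := by
    intro i hi hi1 hii g hg
    obtain ⟨t, ht, hti⟩ := h3 i hi hii
    have hvP : t * z * t⁻¹ ∈ P := h.conj t z hz
    obtain ⟨v, hv, hvc, hiv⟩ := h.outside _ hvP i hii hi1 hti
    obtain ⟨s, hs, rfl⟩ := h1 t ht v hv hvc
    have hsP : s * z * s⁻¹ ∈ P := h.conj s z hz
    have hgi : g * i = i * g := conj_eq_self_iff.1 hg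
    by_cases hiP : i ∈ P
    · obtain ⟨r, hr, hri⟩ := h1 s hs i hiP (h.commz _ hsP i hiv).symm
      refine h2 r hr g ?_
      rw [hri]; exact hgi
    · obtain ⟨v, hv, hadj, hiv'⟩ := h.exists_line _ hsP i hiv hii hi1 hiP
      have h5 := h.claim_single hsP hv hadj hiv hiv' hiP hi1 hii hgi
      have h6 : g * (s * z * s⁻¹) * g⁻¹ ∈ P := h.conj g _ hsP
      obtain ⟨r, hr, hrv⟩ := h1 s hs _ h6 (onl_comm hadj.1 h5)
      -- `g (s z s⁻¹) g⁻¹ = r z r⁻¹`
      have h7 : (r⁻¹ * g * s) * z = z * (r⁻¹ * g * s) := by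
        calc (r⁻¹ * g * s) * z = r⁻¹ * (g * (s * z * s⁻¹) * g⁻¹) * g * s := by group
          _ = r⁻¹ * (r * z * r⁻¹) * g * s := by rw [hrv]
          _ = _ := by group
      have h8 := H.mul_mem (H.mul_mem hr (hcz _ h7)) (H.inv_mem hs)
      have e1 : r * (r⁻¹ * g * s) * s⁻¹ = g := by group
      rwa [e1] at h8
  -- (5)
  obtain ⟨b, hbb, hb1, hbP, hbz⟩ := hb
  have hzz := h.inv z hz
  have h5 : ∀ j : G, j * j = 1 → j ∈ H := by
    intro j hj
    refine Cfsg.Agent.Lib.ClosingTI.all_involutions H h4 z b (hcz z rfl) (h.ne_one z hz) hzz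
      (hcz b hbz) hb1 hbb ?_ j hj
    intro hconj
    obtain ⟨c, hc⟩ := isConj_iff.1 hconj
    exact hbP (hc ▸ h.conj c z hz)
  -- (6)
  rw [Subgroup.eq_top_iff']
  intro g
  have hvP : g * z * g⁻¹ ∈ P := h.conj g z hz
  obtain ⟨t, ht, hti⟩ := h3 _ (h5 _ (h.inv _ hvP)) (h.inv _ hvP)
  obtain ⟨s, hs, hsv⟩ := h1 t ht _ hvP hti.symm
  have h7 : (s⁻¹ * g) * z = z * (s⁻¹ * g) := by
    calc (s⁻¹ * g) * z = s⁻¹ * (g * z * g⁻¹) * g := by group
      _ = s⁻¹ * (s * z * s⁻¹) * g := by rw [hsv]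
      _ = _ := by group
  have h8 := H.mul_mem hs (hcz _ h7)
  rwa [mul_inv_cancel_left] at h8

end IsGeo

end Cfsg.Agent.TypeD4Two.Geo
end

-- part: TypeD4Two/NinePair
section
/-!
# `Pair` with a pairwise non-orthogonal orbit (helper186)

`Hyp Q z A a`: `Pair Q z A a`, `|Q| = 2 ^ 9`, `(nn)` if `c ∈ C_G(z)` and `c a c⁻¹` commutes with `a` then
`c a c⁻¹ ∈ {a, a z}`, `(mv)` not all `c a c⁻¹` commute with `a`.

* `Hyp.cfg`: the configuration `Cfg` on `V = Q / ⟨z⟩`;
* `Hyp.exists_conj`: `C_G(z)` is transitive on `(z^G ∩ Q) - {z}`;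
* `Hyp.outside`: every involution of `C_G(z) - Q` lies in some `Q_v`, `v = c a c⁻¹`;
* `Hyp.mem_of_comm`: `z^G ∩ C_G(z) ⊆ Q`;
* `Hyp.isGeo`, `Hyp.closing`: the geometry, `G = ⟨C_G(z), m⟩`.
-/

set_option autoImplicit false

namespace Cfsg.Agent.TypeD4Two.NinePair

open Cfsg.Agent.Co2Type.Quad Cfsg.Agent.LargeExtra.Local Cfsg.Agent.LargeExtra.Base
open Cfsg.Agent.TypeD4Two.NineV

variable {G : Type*} [Group G]

structure Hyp (Q : Subgroup G) (z : G) (A : Subgroup G) (a : G) : Prop where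
  p : Pair Q z A a
  card : Nat.card Q = 2 ^ 9
  nn : ∀ c, c * z = z * c → (c * a * c⁻¹) * a = a * (c * a * c⁻¹) → c * a * c⁻¹ = a ∨ c * a * c⁻¹ = a * z
  mv : ∃ c, c * z = z * c ∧ (c * a * c⁻¹) * a ≠ a * (c * a * c⁻¹)

theorem mem_map {Q : Subgroup G} {g x : G} :
    x ∈ Q.map (MulAut.conj g).toMonoidHom ↔ g⁻¹ * x * g ∈ Q := by
  constructor
  · rintro ⟨y, hy, rfl⟩
    have : g⁻¹ * (MulAut.conj g).toMonoidHom y * g = y := by
      show g⁻¹ * (g * y * g⁻¹) * g = y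
      group
    rw [this]; exact hy
  · intro hx
    refine ⟨_, hx, ?_⟩
    show g * (g⁻¹ * x * g) * g⁻¹ = x
    group

theorem zcomm {z : G} (c : Subgroup.centralizer ({z} : Set G)) : (c : G) * z = z * c :=
  Subgroup.mem_centralizer_singleton_iff.1 c.2

namespace Hyp

variable {Q A : Subgroup G} {z a : G}

theorem card_V (h : Hyp Q z A a) : Nat.card h.p.lz.V = 2 ^ 8 := by
  have h1 := h.p.lz.card_eq
  rw [h.card] at h1
  omega

/-- `(nn)` in `V` -/
theorem nnV (h : Hyp Q z A a) {f : h.p.lz.V ≃ₗ[ZMod 2] h.p.lz.V} (hf : f ∈ h.p.H)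
    (hb : h.p.lz.b h.p.va (f h.p.va) = 0) : f h.p.va = h.p.va := by
  obtain ⟨c, rfl⟩ := hf
  have h1 : h.p.lz.act c h.p.va = h.p.lz.pr (h.p.lz.conjQ c ⟨a, h.p.a_mem⟩) := h.p.lz.act_pr c _
  rw [h1] at hb ⊢
  have h2 := (h.p.lz.b_pr _ _).1 hb
  have h3 := h.nn c (zcomm c) h2.symm
  exact h.p.lz.pr_eq_pr.2 h3

/-- `a` and `a z` are conjugate by an element of `Q` -/
theorem exists_swap (h : Hyp Q z A a) : ∃ y ∈ Q, y * a * y⁻¹ = a * z := by
  obtain ⟨y, hy, hya⟩ := exists_not_comm h.p.lz h.p.a_mem h.p.la.z_ne h.p.ne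
  refine ⟨y, hy, ?_⟩
  rw [hya, mul_assoc a y z, h.p.lz.comm_z y hy, ← mul_assoc, mul_inv_cancel_right]

/-- `A ∩ A^b ≤ Q` for `b ∈ Q`, `a^b = a z` -/
theorem inter_le [Finite G] (h : Hyp Q z A a) {y : G} (hy : y ∈ Q) (hya : y * a * y⁻¹ = a * z)
    {c : G} (hc : c ∈ A) (hcy : y⁻¹ * c * y ∈ A) : c ∈ Q := by
  classical
  set B := A.map (MulAut.conj y).toMonoidHom with hB
  obtain ⟨g0, hg0, -, hA, -⟩ := h.p.isConj
  obtain ⟨g, hg1, hg2, -⟩ := h.p.cycle
  -- `gQg⁻¹ = A`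
  have h1 : Q.map (MulAut.conj g).toMonoidHom = A := by
    rw [hA]
    exact map_eq_of_conj h.p.lz (by rw [hg1, hg0])
  -- `gAg⁻¹ = B`
  have h2 : A.map (MulAut.conj g).toMonoidHom = B :=
    map_eq_of_conj h.p.la (by rw [hg2, hya])
  have h3 : (Q ⊓ A).map (MulAut.conj g).toMonoidHom = A ⊓ B := by
    rw [Subgroup.map_inf _ _ _ (MulAut.conj g).injective, h1, h2]
  have h4 : Nat.card ↥(A ⊓ B) = Nat.card ↥(Q ⊓ A) := by
    rw [← h3]; exact Subgroup.card_map_of_injective (MulAut.conj g).injective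
  have h5 : Q ⊓ A ≤ A ⊓ B := by
    rintro d ⟨hdQ, hdA⟩
    refine ⟨hdA, ?_⟩
    rw [hB]
    show d ∈ A.map (MulAut.conj y).toMonoidHom
    rw [mem_map]
    rcases h.p.lz.comm d hdQ y hy with h6 | h6
    · have : y⁻¹ * d * y = d := by rw [mul_assoc, h6]; group
      rw [this]; exact hdA
    · have : y⁻¹ * d * y = d * z := by rw [mul_assoc, h6]; group
      rw [this]; exact A.mul_mem hdA h.p.z_mem
  have h6 := Subgroup.eq_of_le_of_card_ge h5 (by rw [h4])
  have h7 : c ∈ A ⊓ B := ⟨hc, mem_map.2 hcy⟩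
  rw [← h6] at h7
  exact h7.1

theorem semi [Finite G] (h : Hyp Q z A a) {f : h.p.lz.V ≃ₗ[ZMod 2] h.p.lz.V} (hf : f ∈ h.p.X)
    {g : h.p.lz.V ≃ₗ[ZMod 2] h.p.lz.V} (hg : g ∈ h.p.H) (hga : g h.p.va ≠ h.p.va)
    (hfg : f (g h.p.va) = g h.p.va) : f = 1 := by
  obtain ⟨c, hcA, rfl⟩ := h.p.mem_X.1 hf
  apply h.p.lz.act_mem
  have hb : h.p.lz.b h.p.va (g h.p.va) ≠ 0 := fun h1 => hga (h.nnV hg h1)
  obtain ⟨d, rfl⟩ := hg
  set y : Q := h.p.lz.conjQ d ⟨a, h.p.a_mem⟩ with hy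
  have h1 : h.p.lz.act d h.p.va = h.p.lz.pr y := h.p.lz.act_pr d _
  rw [h1] at hfg hb
  have hay : (a : G) * y ≠ y * a := fun h2 => hb ((h.p.lz.b_pr ⟨a, h.p.a_mem⟩ y).2 h2)
  have hay' : (y : G) * a = a * y * z := by
    rcases h.p.lz.comm y y.2 a h.p.a_mem with h2 | h2
    · exact absurd h2.symm hay
    · exact h2
  have hya : (y : G) * a * (y : G)⁻¹ = a * z := by
    rw [hay', mul_assoc a (y : G) z, h.p.lz.comm_z y y.2, ← mul_assoc, mul_inv_cancel_right]
  refine h.inter_le y.2 hya hcA ?_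
  rw [h.p.lz.act_pr, h.p.lz.pr_eq_pr, h.p.lz.conjQ_coe] at hfg
  have hcz := zcomm c
  rcases hfg with h2 | h2
  · have h3 : (y : G)⁻¹ * c * y = c := by
      rw [mul_inv_eq_iff_eq_mul] at h2
      rw [mul_assoc, h2]; group
    rw [h3]; exact hcA
  · have h3 : (y : G)⁻¹ * c * y = z * c := by
      rw [mul_inv_eq_iff_eq_mul] at h2
      rw [mul_assoc, h2]; group
    rw [h3]; exact A.mul_mem h.p.z_mem hcA

/-- the configuration on `V` -/
theorem cfg [Finite G] (h : Hyp Q z A a) :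
    Cfg h.p.lz.b h.p.lz.q h.p.H h.p.X h.p.D h.p.va where
  card := h.card_V
  nondeg := fun _ hv => h.p.lz.b_nondeg hv
  symm := h.p.lz.b_comm
  self := h.p.lz.b_self
  isom := by
    rintro f ⟨c, rfl⟩ v w
    exact h.p.lz.b_act c v w
  q_add := h.p.lz.q_add'
  q_isom := by
    rintro f ⟨c, rfl⟩ v
    exact h.p.lz.q_act c v
  XH := h.p.X_le_H
  Xa := fun _ hf => h.p.X_va hf
  Xsq := fun _ hf => h.p.X_sq hf
  Xcomm := fun _ hf _ hg => h.p.X_comm hf hg
  Xnormal := fun _ hf hfa _ hg => h.p.X_normal hf hfa hg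
  XD := fun _ hf _ hv => h.p.X_D hf hv
  Dinv := fun _ hf hfa _ hv => h.p.D_inv hf hfa hv
  exX := h.p.exists_X
  a_mem := h.p.va_mem_D
  a_ne := h.p.va_ne
  D_iso := fun _ hv _ hw => h.p.b_D hv hw
  D_q := fun _ hv => h.p.q_D hv
  cardXD := h.p.card_X
  nn := fun _ hf hb => h.nnV hf hb
  semi := fun _ hf _ hg hga hfg => h.semi hf hg hga hfg
  mv := by
    obtain ⟨c, hcz, hca⟩ := h.mv
    refine ⟨h.p.lz.act ⟨c, Subgroup.mem_centralizer_singleton_iff.2 hcz⟩, ⟨_, rfl⟩, fun h1 => ?_⟩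
    have h2 : h.p.lz.act ⟨c, Subgroup.mem_centralizer_singleton_iff.2 hcz⟩ h.p.va =
      h.p.lz.pr (h.p.lz.conjQ ⟨c, Subgroup.mem_centralizer_singleton_iff.2 hcz⟩ ⟨a, h.p.a_mem⟩) :=
      h.p.lz.act_pr _ _
    rw [h2, Pair.va, h.p.lz.pr_eq_pr, h.p.lz.conjQ_coe] at h1
    have h1' : c * a * c⁻¹ = a ∨ c * a * c⁻¹ = a * z := h1
    apply hca
    rcases h1' with h3 | h3
    · rw [h3]
    · rw [h3, mul_assoc, ← h.p.comm_za, ← mul_assoc]

theorem symm (h : Hyp Q z A a) : Hyp A a Q z := by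
  obtain ⟨g, hg1, hg2, hA, hQ⟩ := h.p.isConj
  have key : ∀ c, c * a = a * c → (g⁻¹ * c * g) * z = z * (g⁻¹ * c * g) := by
    intro c hc
    have hz : z = g⁻¹ * a * g := by rw [← hg1]; group
    rw [hz]
    calc g⁻¹ * c * g * (g⁻¹ * a * g) = g⁻¹ * (c * a) * g := by group
      _ = g⁻¹ * (a * c) * g := by rw [hc]
      _ = _ := by group
  have ha : a = g⁻¹ * z * g := by rw [← hg2]; group
  refine ⟨h.p.symm, ?_, ?_, ?_⟩
  · rw [h.p.card_eq, h.card]
  · intro c hc hcom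
    have h1 : g * (g⁻¹ * c * g * a * (g⁻¹ * c * g)⁻¹) * g⁻¹ = c * z * c⁻¹ := by
      calc g * (g⁻¹ * c * g * a * (g⁻¹ * c * g)⁻¹) * g⁻¹ = c * (g * a * g⁻¹) * c⁻¹ := by group
        _ = _ := by rw [hg2]
    have h3 : g⁻¹ * c * g * a * (g⁻¹ * c * g)⁻¹ = g⁻¹ * (c * z * c⁻¹) * g := by
      rw [← h1]; group
    have h2 : g⁻¹ * c * g * a * (g⁻¹ * c * g)⁻¹ * a = a * (g⁻¹ * c * g * a * (g⁻¹ * c * g)⁻¹) := by
      rw [h3]
      conv_lhs => rw [ha]
      conv_rhs => rw [ha]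
      calc g⁻¹ * (c * (z) * c⁻¹) * g * (g⁻¹ * z * g) = g⁻¹ * ((c * z * c⁻¹) * z) * g := by group
        _ = g⁻¹ * (z * (c * z * c⁻¹)) * g := by rw [hcom]
        _ = _ := by group
    rcases h.nn _ (key c hc) h2 with h4 | h4
    · left
      rw [← h1, h4, hg2]
    · right
      rw [← h1, h4]
      calc g * (a * z) * g⁻¹ = (g * a * g⁻¹) * (g * z * g⁻¹) := by group
        _ = z * a := by rw [hg1, hg2]
  · obtain ⟨c, hc, hca⟩ := h.mv
    refine ⟨g * c * g⁻¹, ?_, fun h1 => hca ?_⟩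
    · rw [← hg1]
      calc g * c * g⁻¹ * (g * z * g⁻¹) = g * (c * z) * g⁻¹ := by group
        _ = g * (z * c) * g⁻¹ := by rw [hc]
        _ = _ := by group
    · have h2 : g * c * g⁻¹ * z * (g * c * g⁻¹)⁻¹ = g * (c * a * c⁻¹) * g⁻¹ := by
        rw [← hg2]; group
      rw [h2] at h1
      calc c * a * c⁻¹ * a = g⁻¹ * (g * (c * a * c⁻¹) * g⁻¹ * (g * a * g⁻¹)) * g := by group
        _ = g⁻¹ * (g * (c * a * c⁻¹) * g⁻¹ * z) * g := by rw [hg2]
        _ = g⁻¹ * (z * (g * (c * a * c⁻¹) * g⁻¹)) * g := by rw [h1]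
        _ = g⁻¹ * ((g * a * g⁻¹) * (g * (c * a * c⁻¹) * g⁻¹)) * g := by rw [hg2]
        _ = _ := by group

theorem comm_z (h : Hyp Q z A a) {x : G} (hx : x ∈ Q) : x * z = z * x := h.p.lz.comm_z x hx

theorem zz (h : Hyp Q z A a) : z * z = 1 := h.p.lz.z_sq

theorem aa (h : Hyp Q z A a) : a * a = 1 := h.p.la.z_sq

/-- if `v ∈ Q` is not central there is `y ∈ Q` with `y v y⁻¹ = v z` -/
theorem exists_swap' (h : Hyp Q z A a) {v : G} (hv : v ∈ Q) (h1 : v ≠ 1) (hz : v ≠ z) :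
    ∃ y ∈ Q, y * v * y⁻¹ = v * z := by
  obtain ⟨y, hy, hya⟩ := exists_not_comm h.p.lz hv h1 hz
  refine ⟨y, hy, ?_⟩
  rw [hya, mul_assoc v y z, h.comm_z hy, ← mul_assoc, mul_inv_cancel_right]

theorem zvz (h : Hyp Q z A a) {v : G} : v * z * z = v := by rw [mul_assoc, h.zz, mul_one]

/-- `C_G(z)` is transitive on `(z^G ∩ Q) - {z}` -/
theorem exists_conj [Finite G] (h : Hyp Q z A a) {g : G} (hin : g * z * g⁻¹ ∈ Q)
    (hne : g * z * g⁻¹ ≠ z) : ∃ c, c * z = z * c ∧ c * a * c⁻¹ = g * z * g⁻¹ := by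
  classical
  set v := g * z * g⁻¹ with hv
  have p' : Pair Q z (Q.map (MulAut.conj g).toMonoidHom) v := pair_of_conj h.p.lz hin hne
  have h1 := p'.card_X
  have h2 : Nat.card p'.D ≤ 16 := by
    have h3 := Cfsg.Agent.LargeExtra.Perp.card_sq_le h.p.lz p'.D (fun v hv w hw => p'.b_D hv hw)
    rw [h.card_V] at h3
    by_contra hcon
    nlinarith only [h3, hcon]
  have h3 : Nat.card p'.lz.V = 2 ^ 8 := h.card_V
  rw [h3] at h1
  have h8 : 8 ≤ Nat.card p'.X := by
    by_contra hcon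
    have h4 : Nat.card p'.X ≤ 7 := by omega
    have : Nat.card p'.X * Nat.card p'.D * 2 ≤ 7 * 16 * 2 := by
      apply Nat.mul_le_mul_right
      exact Nat.mul_le_mul h4 h2
    omega
  have h5 := h.cfg.mem_O_of_fixed p'.X p'.X_le_H (fun y hy => p'.X_sq hy) h8 (v := p'.va) p'.va_ne
    (fun y hy => p'.X_va hy)
  obtain ⟨f, ⟨c, rfl⟩, hf⟩ := h5
  have h6 : h.p.lz.act c h.p.va = h.p.lz.pr (h.p.lz.conjQ c ⟨a, h.p.a_mem⟩) := h.p.lz.act_pr c _
  rw [h6] at hf
  have h7 : (h.p.lz.conjQ c ⟨a, h.p.a_mem⟩ : G) = v ∨ (h.p.lz.conjQ c ⟨a, h.p.a_mem⟩ : G) = v * z :=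
    h.p.lz.pr_eq_pr.1 hf
  rw [h.p.lz.conjQ_coe] at h7
  rcases h7 with h7 | h7
  · exact ⟨c, zcomm c, h7⟩
  · have hv1 : v ≠ 1 := p'.la.z_ne
    obtain ⟨y, hy, hyv⟩ := h.exists_swap' hin hv1 hne
    refine ⟨y * c, ?_, ?_⟩
    · rw [mul_assoc, zcomm c, ← mul_assoc, h.comm_z hy, mul_assoc]
    · have h7' : (c : G) * a * (c : G)⁻¹ = v * z := h7
      calc y * c * a * (y * c)⁻¹ = y * (c * a * (c : G)⁻¹) * y⁻¹ := by group
        _ = y * (v * z) * y⁻¹ := by rw [h7']
        _ = y * v * (y⁻¹ * z) := by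
            have : z * y⁻¹ = y⁻¹ * z := (h.comm_z (Q.inv_mem hy)).symm
            rw [← this]; group
        _ = v * z * z := by rw [← mul_assoc, hyv]
        _ = v := h.zvz

/-- an involution of `C_G(z)` outside `Q` fixing `ã` -/
theorem outside_a [Finite G] (h : Hyp Q z A a) (i : Subgroup.centralizer ({z} : Set G))
    (hii : (i : G) * i = 1) (hiQ : (i : G) ∉ Q) (hia : h.p.lz.act i h.p.va = h.p.va) :
    ∃ w ∈ Q, w * i * w⁻¹ ∈ A := by
  classical
  have h1 : h.p.lz.act i ∈ h.p.X := by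
    refine h.cfg.mem_X_of_sq ⟨i, rfl⟩ ?_ hia
    rw [← map_mul]
    have : i * i = 1 := Subtype.ext hii
    rw [this, map_one]
  obtain ⟨x, hxA, hxi⟩ := h.p.mem_X.1 h1
  have hx1 : h.p.lz.act x ≠ 1 := by
    intro h2
    rw [hxi] at h2
    exact hiQ (h.p.lz.mem_of_act i h2)
  -- an involution in `x D`
  obtain ⟨x', hx'A, hx'i, hx'x'⟩ : ∃ x' : Subgroup.centralizer ({z} : Set G), (x' : G) ∈ A ∧
      h.p.lz.act x' = h.p.lz.act i ∧ (x' : G) * x' = 1 := by
    rcases h.p.la.sq x hxA with h2 | h2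
    · exact ⟨x, hxA, hxi, h2⟩
    · -- some `d ∈ D` does not commute with `x`
      obtain ⟨d, hdQ, hdA, hxd⟩ : ∃ d ∈ Q, d ∈ A ∧ (x : G) * d ≠ d * x := by
        by_contra hcon
        push Not at hcon
        apply hx1
        apply h.p.lz.act_mem
        by_contra hxQ
        have h3 : h.symm.p.lz.pr ⟨x, hxA⟩ ∉ h.symm.p.D := by
          intro h4
          exact hxQ ((h.symm.p.pr_mem_D _).1 h4)
        obtain ⟨e, he, hxe⟩ := h.symm.cfg.perp_D h3
        obtain ⟨d, hdQ, rfl⟩ := he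
        have h5 := (h.symm.p.lz.b_pr_one _ _).1 hxe
        have h6 := hcon d hdQ d.2
        have h7 : (x : G) * d = d * x * a := h5
        rw [h6] at h7
        exact h.p.la.z_ne (mul_eq_left.1 h7.symm)
      have hxd' : (x : G) * d = d * x * a := (h.p.la.comm x hxA d hdA).resolve_left hxd
      have hdz : d * z = z * d := h.comm_z hdQ
      refine ⟨x * ⟨d, Subgroup.mem_centralizer_singleton_iff.2 hdz⟩, A.mul_mem hxA hdA, ?_, ?_⟩
      · rw [map_mul, h.p.lz.act_mem ⟨d, Subgroup.mem_centralizer_singleton_iff.2 hdz⟩ hdQ, mul_one, hxi]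
      · show (x : G) * d * (x * d) = 1
        have hdd : d * d = 1 := h.p.sq_D hdQ hdA
        have hxa : (x : G) * a = a * x := h.p.la.comm_z x hxA
        have hda : d * a = a * d := h.p.la.comm_z d hdA
        calc (x : G) * d * (x * d) = d * x * a * (x * d) := by rw [hxd']
          _ = d * (x * (a * x)) * d := by group
          _ = d * (x * (x * a)) * d := by rw [hxa]
          _ = d * ((x * x) * a) * d := by group
          _ = d * (a * a) * d := by rw [h2]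
          _ = 1 := by rw [h.aa, mul_one, hdd]
  -- `i = x' y`
  have hyQ : (x' : G)⁻¹ * i ∈ Q := by
    refine h.p.lz.mem_of_act (x'⁻¹ * i) ?_
    rw [map_mul, map_inv, hx'i, inv_mul_cancel]
  set y : Q := ⟨(x' : G)⁻¹ * i, hyQ⟩ with hy
  have hxi' : (x' : G)⁻¹ = x' := inv_eq_of_mul_eq_one_left hx'x'
  have hiy : (i : G) = x' * y := by
    show (i : G) = x' * ((x' : G)⁻¹ * i)
    group
  have hx'1 : h.p.lz.act x' ≠ 1 := by rw [hx'i, ← hxi]; exact hx1
  -- `ỹ` is fixed by `x'`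
  have hfix : h.p.lz.act x' (h.p.lz.pr y) = h.p.lz.pr y := by
    rw [h.p.lz.act_pr]
    apply eq_of_add
    rw [← h.p.lz.pr_mul, ← h.p.lz.pr_one]
    congr 1
    apply Subtype.ext
    show (x' : G) * ((x' : G)⁻¹ * i) * (x' : G)⁻¹ * ((x' : G)⁻¹ * i) = 1
    rw [hxi']
    calc (x' : G) * (x' * i) * x' * (x' * i) = (x' * x') * i * ((x' * x') * i) := by group
      _ = 1 := by rw [hx'x', one_mul, hii]
  obtain ⟨u, hu⟩ := h.cfg.fixed_x (x := h.p.lz.act x')
    (h.p.mem_X.2 ⟨x', hx'A, rfl⟩) hx'1 hfix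
  obtain ⟨w, rfl⟩ := h.p.lz.pr_surjective u
  have ht : h.p.lz.pr (h.p.lz.conjQ x' w⁻¹ * w) = h.p.lz.pr y := by
    rw [h.p.lz.pr_mul, ← h.p.lz.act_pr, h.p.lz.pr_inv, h.p.lz.neg_eq, hu, add_comm]
  have hx'z := zcomm x'
  have hiz := zcomm i
  have hwz := h.comm_z w.2
  have h4 : (x' : G) * ((h.p.lz.conjQ x' w⁻¹ * w : Q) : G) = (w : G)⁻¹ * x' * w := by
    show (x' : G) * ((x' : G) * (w : G)⁻¹ * (x' : G)⁻¹ * w) = _
    rw [hxi']
    calc (x' : G) * (x' * (w : G)⁻¹ * x' * w) = (x' * x') * (w : G)⁻¹ * x' * w := by group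
      _ = _ := by rw [hx'x', one_mul]
  refine ⟨w, w.2, ?_⟩
  rcases h.p.lz.pr_eq_pr.1 ht with h5 | h5
  · rw [h5, ← hiy] at h4
    have : (w : G) * i * (w : G)⁻¹ = x' := by rw [h4]; group
    rw [this]; exact hx'A
  · rw [h5, ← mul_assoc, ← hiy] at h4
    have : (w : G) * i * (w : G)⁻¹ = x' * z := by
      have h6 : (i : G) = (w : G)⁻¹ * x' * w * z := by rw [← h4, h.zvz]
      rw [h6]
      calc (w : G) * ((w : G)⁻¹ * x' * w * z) * (w : G)⁻¹ = x' * (w * z) * (w : G)⁻¹ := by group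
        _ = x' * (z * w) * (w : G)⁻¹ := by rw [hwz]
        _ = _ := by group
    rw [this]; exact A.mul_mem hx'A h.p.z_mem

end Hyp

/-! ## The geometry -/

open Cfsg.Agent.TypeD4Two.Geo

/-- the conjugates of `z` -/
def Pt (z : G) : Set G := {v | ∃ g, g * z * g⁻¹ = v}

theorem z_mem_Pt (z : G) : z ∈ Pt z := ⟨1, by group⟩

theorem conj_mem_Pt {z v : G} (g : G) (hv : v ∈ Pt z) : g * v * g⁻¹ ∈ Pt z := by
  obtain ⟨k, rfl⟩ := hv
  exact ⟨g * k, by group⟩

/-- the conjugate of `Q` belonging to `v ∈ z^G` -/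
noncomputable def Qf (Q : Subgroup G) (z v : G) : Subgroup G := by
  classical exact
    if h : ∃ g, g * z * g⁻¹ = v then Q.map (MulAut.conj h.choose).toMonoidHom else ⊥

theorem Qf_conj {Q : Subgroup G} {z : G} (h : Large Q z) (g : G) :
    Qf Q z (g * z * g⁻¹) = Q.map (MulAut.conj g).toMonoidHom := by
  have hex : ∃ k, k * z * k⁻¹ = g * z * g⁻¹ := ⟨g, rfl⟩
  rw [Qf, dif_pos hex]
  exact map_eq_of_conj h hex.choose_spec

theorem mem_Qf {Q : Subgroup G} {z : G} (h : Large Q z) {g x : G} :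
    x ∈ Qf Q z (g * z * g⁻¹) ↔ g⁻¹ * x * g ∈ Q := by
  rw [Qf_conj h, mem_map]

theorem Qf_z {Q : Subgroup G} {z : G} (h : Large Q z) : Qf Q z z = Q := by
  have h1 := Qf_conj h 1
  have e : (1 : G) * z * 1⁻¹ = z := by group
  rw [e] at h1
  rw [h1]
  ext x
  rw [mem_map]
  simp

theorem conj_mem_Qf {Q : Subgroup G} {z : G} (h : Large Q z) {v x : G} (k : G) (hv : v ∈ Pt z) :
    k * x * k⁻¹ ∈ Qf Q z (k * v * k⁻¹) ↔ x ∈ Qf Q z v := by
  obtain ⟨g, rfl⟩ := hv
  have e : k * (g * z * g⁻¹) * k⁻¹ = (k * g) * z * (k * g)⁻¹ := by group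
  rw [e, mem_Qf h, mem_Qf h]
  have e2 : (k * g)⁻¹ * (k * x * k⁻¹) * (k * g) = g⁻¹ * x * g := by group
  rw [e2]

namespace Hyp

variable {Q A : Subgroup G} {z a : G}

theorem zn (h : Hyp Q z A a) : z ≠ 1 := h.p.lz.z_ne

theorem mem_Q_conj (h : Hyp Q z A a) {c x : G} (hc : c * z = z * c) (hx : x ∈ Q) : c * x * c⁻¹ ∈ Q :=
  h.p.lz.conj_mem c hc x hx

theorem inv_comm {c z : G} (hc : c * z = z * c) : c⁻¹ * z = z * c⁻¹ := by
  rw [inv_mul_eq_iff_eq_mul, ← mul_assoc, hc, mul_inv_cancel_right]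

theorem mem_Q_conj_iff (h : Hyp Q z A a) {c x : G} (hc : c * z = z * c) :
    c⁻¹ * x * c ∈ Q ↔ x ∈ Q := by
  constructor
  · intro hx
    have := h.mem_Q_conj hc hx
    have e : c * (c⁻¹ * x * c) * c⁻¹ = x := by group
    rwa [e] at this
  · intro hx
    have := h.mem_Q_conj (inv_comm hc) hx
    rwa [inv_inv] at this

theorem outside_z [Finite G] (h : Hyp Q z A a) {i : G} (hii : i * i = 1) (hiz : i * z = z * i)
    (hiQ : i ∉ Q) : ∃ c, c * z = z * c ∧ c⁻¹ * i * c ∈ A := by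
  set i' : Subgroup.centralizer ({z} : Set G) := ⟨i, Subgroup.mem_centralizer_singleton_iff.2 hiz⟩
  have hsq : h.p.lz.act i' * h.p.lz.act i' = 1 := by
    rw [← map_mul]
    have : i' * i' = 1 := Subtype.ext hii
    rw [this, map_one]
  obtain ⟨v, ⟨f, ⟨c, rfl⟩, rfl⟩, hv⟩ := h.cfg.exists_fixed_one ⟨i', rfl⟩ hsq
  have hc := zcomm c
  obtain ⟨w, hw, hwA⟩ := h.outside_a (c⁻¹ * i' * c)
    (by
      show (c : G)⁻¹ * i * c * ((c : G)⁻¹ * i * c) = 1
      calc (c : G)⁻¹ * i * c * ((c : G)⁻¹ * i * c) = (c : G)⁻¹ * (i * i) * c := by group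
        _ = 1 := by rw [hii]; group)
    (fun h1 => hiQ ((h.mem_Q_conj_iff hc).1 h1))
    (by
      rw [map_mul, map_mul, map_inv]
      exact Cfg.conj_a _ _ rfl hv)
  refine ⟨c * w⁻¹, ?_, ?_⟩
  · rw [mul_assoc, inv_comm (h.comm_z hw), ← mul_assoc, hc, mul_assoc]
  · have e : (c * w⁻¹)⁻¹ * i * (c * w⁻¹) = w * ((c : G)⁻¹ * i * c) * w⁻¹ := by group
    rw [e]; exact hwA

/-- FUSION: `z^G ∩ C_G(z) ⊆ Q` -/
theorem mem_of_comm [Finite G] (h : Hyp Q z A a) {v : G} (hv : v ∈ Pt z) (hvz : v * z = z * v) :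
    v ∈ Q := by
  by_contra hvQ
  obtain ⟨g, rfl⟩ := hv
  have hvv : (g * z * g⁻¹) * (g * z * g⁻¹) = 1 := by
    calc (g * z * g⁻¹) * (g * z * g⁻¹) = g * (z * z) * g⁻¹ := by group
      _ = 1 := by rw [h.zz]; group
  obtain ⟨c, hc, hcA⟩ := h.outside_z hvv hvz hvQ
  obtain ⟨g0, hg0, -, -, -⟩ := h.p.isConj
  have hz : z = g0⁻¹ * a * g0 := by rw [← hg0]; group
  have e : c⁻¹ * (g * z * g⁻¹) * c = (c⁻¹ * g * g0⁻¹) * a * (c⁻¹ * g * g0⁻¹)⁻¹ := by
    conv_lhs => rw [hz]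
    group
  have hne : (c⁻¹ * g * g0⁻¹) * a * (c⁻¹ * g * g0⁻¹)⁻¹ ≠ a := by
    rw [← e]
    intro h1
    apply hvQ
    rw [← h.mem_Q_conj_iff hc, h1]
    exact h.p.a_mem
  have hin : (c⁻¹ * g * g0⁻¹) * a * (c⁻¹ * g * g0⁻¹)⁻¹ ∈ A := by rw [← e]; exact hcA
  obtain ⟨c', hc', hc'v⟩ := h.symm.exists_conj hin hne
  rw [← e] at hc'v
  have hcomm : (c' * z * c'⁻¹) * z = z * (c' * z * c'⁻¹) := by
    rw [hc'v]
    have h1 := comm_conj c⁻¹ hvz
    rw [inv_inv] at h1
    have e1 : c⁻¹ * z * c = z := by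
      rw [mul_assoc, ← hc]; group
    rwa [e1] at h1
  have h2 := h.symm.nn c' hc' hcomm
  rw [hc'v] at h2
  apply hvQ
  rw [← h.mem_Q_conj_iff hc]
  rcases h2 with h2 | h2
  · rw [h2]; exact h.p.lz.z_mem
  · rw [h2]; exact Q.mul_mem h.p.lz.z_mem h.p.a_mem

theorem tr [Finite G] (h : Hyp Q z A a) {v : G} (hv : v ∈ Pt z) (hzv : Adj z v) :
    ∃ c, c * z = z * c ∧ c * a * c⁻¹ = v := by
  have h1 := h.mem_of_comm hv hzv.1.symm
  obtain ⟨g, rfl⟩ := hv
  exact h.exists_conj h1 hzv.2.symm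

theorem az_mem (h : Hyp Q z A a) : z * a ∈ Pt z := by
  obtain ⟨g, -, -, hg⟩ := h.p.cycle
  refine ⟨g⁻¹, ?_⟩
  rw [← h.p.comm_za]
  conv_lhs => rw [← hg]
  group

theorem a_mem_Pt (h : Hyp Q z A a) : a ∈ Pt z := by
  obtain ⟨g, hg, -⟩ := h.p.isConj
  exact ⟨g, hg⟩

theorem line_z [Finite G] (h : Hyp Q z A a) {v : G} (hv : v ∈ Pt z) (hzv : Adj z v) :
    z * v ∈ Pt z := by
  obtain ⟨c, hc, rfl⟩ := h.tr hv hzv
  have e : z * (c * a * c⁻¹) = c * (z * a) * c⁻¹ := by
    rw [← mul_assoc, ← mul_assoc, ← hc]; group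
  rw [e]
  exact conj_mem_Pt c h.az_mem

/-- commuting points adjacent to `z` lie on one line -/
theorem nn_z [Finite G] (h : Hyp Q z A a) {v w : G} (hv : v ∈ Pt z) (hzv : Adj z v) (hw : w ∈ Pt z)
    (hzw : Adj z w) (hvw : v * w = w * v) : w = v ∨ w = z * v := by
  obtain ⟨c, hc, rfl⟩ := h.tr hv hzv
  obtain ⟨d, hd, rfl⟩ := h.tr hw hzw
  have hcd : (c⁻¹ * d) * z = z * (c⁻¹ * d) := by
    rw [mul_assoc, hd, ← mul_assoc, inv_comm hc, mul_assoc]
  have e : (c⁻¹ * d) * a * (c⁻¹ * d)⁻¹ = c⁻¹ * (d * a * d⁻¹) * c := by group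
  have h1 := h.nn (c⁻¹ * d) hcd (by
    rw [e]
    have h2 := comm_conj c⁻¹ hvw
    rw [inv_inv] at h2
    have e2 : c⁻¹ * (c * a * c⁻¹) * c = a := by group
    rw [e2] at h2
    exact h2.symm)
  rw [e] at h1
  have e3 : d * a * d⁻¹ = c * (c⁻¹ * (d * a * d⁻¹) * c) * c⁻¹ := by group
  rcases h1 with h1 | h1
  · left; rw [e3, h1]
  · right
    rw [e3, h1, h.p.comm_za, ← mul_assoc, hc]
    group

theorem z_mem_Qf [Finite G] (h : Hyp Q z A a) {v : G} (hv : v ∈ Pt z) (hzv : Adj z v) :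
    z ∈ Qf Q z v := by
  have h1 := h.mem_of_comm hv hzv.1.symm
  obtain ⟨g, rfl⟩ := hv
  have p' := pair_of_conj h.p.lz h1 hzv.2.symm
  rw [Qf_conj h.p.lz]
  exact p'.z_mem

theorem mem_Qf_conj (h : Hyp Q z A a) {c x : G} :
    x ∈ Qf Q z (c * a * c⁻¹) ↔ c⁻¹ * x * c ∈ A := by
  obtain ⟨g, hg, -, hA, -⟩ := h.p.isConj
  have e : c * a * c⁻¹ = (c * g) * z * (c * g)⁻¹ := by rw [← hg]; group
  rw [e, mem_Qf h.p.lz, hA, mem_map]
  have e2 : (c * g)⁻¹ * x * (c * g) = g⁻¹ * (c⁻¹ * x * c) * g := by group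
  rw [e2]

theorem mul_z (h : Hyp Q z A a) {x : G} (hx : x ∈ Q) : x * z = z * x := h.comm_z hx

/-- `D` is a property of the line -/
theorem mem_mul_z [Finite G] (h : Hyp Q z A a) {v x : G} (hv : v ∈ Pt z) (hzv : Adj z v)
    (hxQ : x ∈ Q) (hxv : x ∈ Qf Q z v) : x ∈ Qf Q z (z * v) := by
  have hvQ := h.mem_of_comm hv hzv.1.symm
  have hv1 : v ≠ 1 := by
    obtain ⟨g, rfl⟩ := hv
    exact (h.p.lz.conj g).z_ne
  obtain ⟨y, hy, hyv⟩ := h.exists_swap' hvQ hv1 hzv.2.symm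
  rw [hzv.1, ← hyv]
  have e : x = y * (y⁻¹ * x * y) * y⁻¹ := by group
  rw [e, conj_mem_Qf h.p.lz y hv]
  rcases h.p.lz.comm x hxQ y hy with h6 | h6
  · have : y⁻¹ * x * y = x := by rw [mul_assoc, h6]; group
    rw [this]; exact hxv
  · have : y⁻¹ * x * y = x * z := by rw [mul_assoc, h6]; group
    rw [this]; exact (Qf Q z v).mul_mem hxv (h.z_mem_Qf hv hzv)

/-- the element of `H` belonging to `c` -/
noncomputable abbrev ac (h : Hyp Q z A a) {c : G} (hc : c * z = z * c) :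
    h.p.lz.V ≃ₗ[ZMod 2] h.p.lz.V :=
  h.p.lz.act ⟨c, Subgroup.mem_centralizer_singleton_iff.2 hc⟩

theorem ac_mem (h : Hyp Q z A a) {c : G} (hc : c * z = z * c) : h.ac hc ∈ h.p.H := ⟨_, rfl⟩

theorem ac_pr (h : Hyp Q z A a) {c : G} (hc : c * z = z * c) (x : Q) :
    h.ac hc (h.p.lz.pr x) = h.p.lz.pr ⟨c * x * c⁻¹, h.mem_Q_conj hc x.2⟩ := h.p.lz.act_pr _ x

theorem inD_of [Finite G] (h : Hyp Q z A a) {c : G} (hc : c * z = z * c) {e : Q}
    (he : (e : G) ∈ Qf Q z (c * a * c⁻¹)) :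
    Cfg.InD h.p.H h.p.D h.p.va (h.ac hc h.p.va) (h.p.lz.pr e) := by
  refine ⟨h.ac hc, h.ac_mem hc, rfl, ?_⟩
  have h1 := h.mem_Qf_conj.1 he
  have h2 : (h.ac hc)⁻¹ (h.p.lz.pr e) =
      h.p.lz.pr ⟨c⁻¹ * e * c, (h.mem_Q_conj_iff hc).2 e.2⟩ := by
    have h3 : h.ac hc (h.p.lz.pr ⟨c⁻¹ * e * c, (h.mem_Q_conj_iff hc).2 e.2⟩) = h.p.lz.pr e := by
      rw [h.ac_pr]
      congr 1
      apply Subtype.ext
      show c * (c⁻¹ * e * c) * c⁻¹ = e
      group
    rw [← h3, Cfg.inv_apply_apply]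
  rw [h2, h.p.pr_mem_D]
  exact h1

theorem ac_va (h : Hyp Q z A a) {c : G} (hc : c * z = z * c) :
    h.ac hc h.p.va = h.p.lz.pr ⟨c * a * c⁻¹, h.mem_Q_conj hc h.p.a_mem⟩ := h.ac_pr hc _

theorem uniq_z [Finite G] (h : Hyp Q z A a) {v w e : G} (hv : v ∈ Pt z) (hw : w ∈ Pt z)
    (hzv : Adj z v) (hzw : Adj z w) (he : e ∈ Q) (hev : e ∈ Qf Q z v) (hew : e ∈ Qf Q z w)
    (heP : e ∉ Pt z) (he1 : e ≠ 1) : w = v ∨ w = z * v := by
  obtain ⟨c, hc, rfl⟩ := h.tr hv hzv
  obtain ⟨d, hd, rfl⟩ := h.tr hw hzw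
  have h1 := h.inD_of hc (e := ⟨e, he⟩) hev
  have h2 := h.inD_of hd (e := ⟨e, he⟩) hew
  have h3 : h.p.lz.pr ⟨e, he⟩ ≠ 0 := by
    intro h4
    rcases h.p.lz.pr_eq_zero.1 h4 with h5 | h5
    · exact he1 h5
    · exact heP (h5 ▸ z_mem_Pt z)
  have h4 := h.cfg.uniq h3 ⟨_, h.ac_mem hd, rfl⟩ h1 h2
  rw [h.ac_va, h.ac_va] at h4
  rcases h.p.lz.pr_eq_pr.1 h4 with h5 | h5
  · left; exact h5
  · right
    have h6 : d * a * d⁻¹ = c * a * c⁻¹ * z := h5
    rw [h6]
    exact hzv.1.symm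

theorem exists_line_z [Finite G] (h : Hyp Q z A a) {i : G} (hi : i ∈ Q) (hii : i * i = 1) :
    ∃ v ∈ Pt z, Adj z v ∧ i ∈ Qf Q z v := by
  have h1 : h.p.lz.q (h.p.lz.pr ⟨i, hi⟩) = 0 := h.p.lz.q_eq_zero.2 hii
  obtain ⟨j, -, f, ⟨c, rfl⟩, -, hD⟩ := h.cfg.exists_D h1
  have hc := zcomm c
  have hne : (c : G) * a * (c : G)⁻¹ ≠ z := by
    intro h2
    apply h.p.ne
    have h3 : (c : G) * a * (c : G)⁻¹ = c * z * (c : G)⁻¹ := by rw [h2, hc, mul_inv_cancel_right]
    exact mul_left_cancel (mul_right_cancel h3)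
  refine ⟨c * a * (c : G)⁻¹, conj_mem_Pt _ h.a_mem_Pt, ⟨(h.comm_z (h.mem_Q_conj hc h.p.a_mem)).symm,
    hne.symm⟩, ?_⟩
  rw [h.mem_Qf_conj]
  have h2 : (h.p.lz.act c)⁻¹ (h.p.lz.pr ⟨i, hi⟩) =
      h.p.lz.pr ⟨(c : G)⁻¹ * i * c, (h.mem_Q_conj_iff hc).2 hi⟩ := by
    have h3 : h.p.lz.act c (h.p.lz.pr ⟨(c : G)⁻¹ * i * c, (h.mem_Q_conj_iff hc).2 hi⟩) =
        h.p.lz.pr ⟨i, hi⟩ := by
      rw [h.p.lz.act_pr]
      congr 1
      apply Subtype.ext
      show (c : G) * ((c : G)⁻¹ * i * c) * (c : G)⁻¹ = i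
      group
    rw [← h3, Cfg.inv_apply_apply]
  rw [h2, h.p.pr_mem_D] at hD
  exact hD

theorem fix_two_z [Finite G] (h : Hyp Q z A a) {v w x : G} (hv : v ∈ Pt z) (hw : w ∈ Pt z)
    (hzv : Adj z v) (hzw : Adj z w) (hne : w ≠ v) (hne' : w ≠ z * v) (hx : x * z = z * x)
    (hxx : x * x ∈ Q) (hxv : x * v * x⁻¹ = v ∨ x * v * x⁻¹ = z * v)
    (hxw : x * w * x⁻¹ = w ∨ x * w * x⁻¹ = z * w) : x ∈ Q := by
  have hvQ := h.mem_of_comm hv hzv.1.symm
  have hwQ := h.mem_of_comm hw hzw.1.symm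
  obtain ⟨c, hc, rfl⟩ := h.tr hv hzv
  obtain ⟨d, hd, rfl⟩ := h.tr hw hzw
  have hfix : ∀ u (hu : u ∈ Q), (x * u * x⁻¹ = u ∨ x * u * x⁻¹ = z * u) →
      h.ac hx (h.p.lz.pr ⟨u, hu⟩) = h.p.lz.pr ⟨u, hu⟩ := by
    intro u hu hxu
    rw [h.ac_pr, h.p.lz.pr_eq_pr]
    rcases hxu with h1 | h1
    · left; exact h1
    · right
      show x * u * x⁻¹ = u * z
      rw [h1, h.comm_z hu]
  have h1 : h.ac hx = 1 := by
    refine h.cfg.fix_two (h.ac_mem hx) ?_ (i := h.ac hc h.p.va) (j := h.ac hd h.p.va)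
      ⟨_, h.ac_mem hc, rfl⟩ ⟨_, h.ac_mem hd, rfl⟩ ?_ ?_ ?_
    · rw [← map_mul]
      exact h.p.lz.act_mem _ hxx
    · rw [h.ac_va, h.ac_va]
      intro h2
      rcases h.p.lz.pr_eq_pr.1 h2.symm with h5 | h5
      · exact hne h5
      · have h6 : d * a * d⁻¹ = c * a * c⁻¹ * z := h5
        exact hne' (by rw [h6]; exact hzv.1.symm)
    · rw [h.ac_va]; exact hfix _ _ hxv
    · rw [h.ac_va]; exact hfix _ _ hxw
  exact h.p.lz.mem_of_act _ h1

theorem count_z [Finite G] (h : Hyp Q z A a) {v : G} (hv : v ∈ Pt z) (hzv : Adj z v)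
    (E : Subgroup G) (hEQ : ∀ e ∈ E, e ∈ Q) (hEv : ∀ e ∈ E, e ∈ Qf Q z v) (hEP : ∀ e ∈ E, e ∉ Pt z) :
    ∃ w ∈ Pt z, Adj z w ∧ w ≠ v ∧ w ≠ z * v ∧ ∀ e ∈ E, e * w = w * e := by
  obtain ⟨c, hc, rfl⟩ := h.tr hv hzv
  set W := Cfsg.Agent.LargeExtra.Local.sub h.p.lz (E.map (MulAut.conj c⁻¹).toMonoidHom) with hW
  have hmem : ∀ x, x ∈ E.map (MulAut.conj c⁻¹).toMonoidHom ↔ c * x * c⁻¹ ∈ E := by
    intro x
    rw [mem_map, inv_inv]
  have hWD : W ≤ h.p.D := by
    rintro _ ⟨x, hx, rfl⟩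
    rw [hmem] at hx
    rw [h.p.pr_mem_D]
    have h1 := h.mem_Qf_conj.1 (hEv _ hx)
    have e : c⁻¹ * (c * x * c⁻¹) * c = x := by group
    rwa [e] at h1
  have haW : h.p.va ∉ W := by
    rintro ⟨x, hx, hxa⟩
    rw [hmem] at hx
    apply hEP _ hx
    rcases h.p.lz.pr_eq_pr.1 hxa with h1 | h1
    · rw [h1]; exact conj_mem_Pt c h.a_mem_Pt
    · rw [h1, h.p.comm_za]; exact conj_mem_Pt c h.az_mem
  obtain ⟨v1, ⟨f, ⟨d, rfl⟩, rfl⟩, hne, hperp⟩ := h.cfg.exists_perp W hWD haW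
  have hd := zcomm d
  have hdva : h.p.lz.act d h.p.va = h.p.lz.pr ⟨d * a * (d : G)⁻¹, h.mem_Q_conj hd h.p.a_mem⟩ :=
    h.p.lz.act_pr d _
  rw [hdva] at hne hperp
  set w' : G := d * a * (d : G)⁻¹ with hw'
  have hw'Q : w' ∈ Q := h.mem_Q_conj hd h.p.a_mem
  have hcw : c * w' * c⁻¹ ∈ Q := h.mem_Q_conj hc hw'Q
  refine ⟨c * w' * c⁻¹, conj_mem_Pt _ (conj_mem_Pt _ h.a_mem_Pt), ⟨(h.comm_z hcw).symm, ?_⟩, ?_, ?_, ?_⟩
  · intro h1
    apply h.p.ne
    have h2 : w' = z := by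
      have h3 : c * w' * c⁻¹ = c * z * c⁻¹ := by rw [← h1, hc, mul_inv_cancel_right]
      exact mul_left_cancel (mul_right_cancel h3)
    have h3 : (d : G) * a * (d : G)⁻¹ = d * z * (d : G)⁻¹ := by
      rw [hd, mul_inv_cancel_right]; exact h2
    exact mul_left_cancel (mul_right_cancel h3)
  · intro h1
    apply hne
    have h2 : w' = a := mul_left_cancel (mul_right_cancel h1)
    exact congrArg h.p.lz.pr (Subtype.ext h2)
  · intro h1
    apply hne
    rw [Pair.va, h.p.lz.pr_eq_pr]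
    right
    show w' = a * z
    have h2 : c * w' * c⁻¹ = c * (a * z) * c⁻¹ := by
      rw [h1, h.p.comm_za, ← mul_assoc, ← mul_assoc, ← mul_assoc, hc]
    exact mul_left_cancel (mul_right_cancel h2)
  · intro e he
    have heQ := hEQ e he
    have he'Q : c⁻¹ * e * c ∈ Q := (h.mem_Q_conj_iff hc).2 heQ
    have h1 := hperp (h.p.lz.pr ⟨c⁻¹ * e * c, he'Q⟩) ⟨⟨c⁻¹ * e * c, he'Q⟩, by
      rw [hmem]
      show c * (c⁻¹ * e * c) * c⁻¹ ∈ E
      have e1 : c * (c⁻¹ * e * c) * c⁻¹ = e := by group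
      rw [e1]; exact he, rfl⟩
    have h2 := (h.p.lz.b_pr _ _).1 h1
    have h3 : (c⁻¹ * e * c) * w' = w' * (c⁻¹ * e * c) := h2
    calc e * (c * w' * c⁻¹) = c * ((c⁻¹ * e * c) * w') * c⁻¹ := by group
      _ = c * (w' * (c⁻¹ * e * c)) * c⁻¹ := by rw [h3]
      _ = _ := by group

theorem conj_inj {k x y : G} : k * x * k⁻¹ = k * y * k⁻¹ ↔ x = y :=
  ⟨fun h1 => mul_left_cancel (mul_right_cancel h1), fun h1 => by rw [h1]⟩

theorem conj_mul' (k x y : G) : k * (x * y) * k⁻¹ = (k * x * k⁻¹) * (k * y * k⁻¹) := by group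

theorem mem_Pt_conj {v : G} (k : G) : k * v * k⁻¹ ∈ Pt z ↔ v ∈ Pt z := by
  constructor
  · intro h1
    have h2 := conj_mem_Pt k⁻¹ h1
    have e : k⁻¹ * (k * v * k⁻¹) * k⁻¹⁻¹ = v := by group
    rwa [e] at h2
  · exact conj_mem_Pt k

/-- the geometry -/
theorem isGeo [Finite G] (h : Hyp Q z A a) : IsGeo (Pt z) (Qf Q z) where
  ne_one := by
    rintro _ ⟨g, rfl⟩
    exact (h.p.lz.conj g).z_ne
  inv := by
    rintro _ ⟨g, rfl⟩
    exact (h.p.lz.conj g).z_sq
  conj := fun g u hu => conj_mem_Pt g hu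
  Qconj := fun g u hu x hx => (conj_mem_Qf h.p.lz g hu).2 hx
  commz := by
    rintro _ ⟨g, rfl⟩ x hx
    rw [Qf_conj h.p.lz] at hx
    exact (h.p.lz.conj g).comm_z x hx
  sq := by
    rintro _ ⟨g, rfl⟩ x hx
    rw [Qf_conj h.p.lz] at hx
    exact (h.p.lz.conj g).sq x hx
  mem_of_comm := by
    rintro u ⟨g, hg⟩ v hv huv
    have hk : g⁻¹ * u * g⁻¹⁻¹ = z := by rw [← hg]; group
    rw [← conj_mem_Qf h.p.lz g⁻¹ ⟨g, hg⟩, hk, Qf_z h.p.lz]
    refine h.mem_of_comm (conj_mem_Pt _ hv) ?_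
    have := comm_conj g⁻¹ huv
    rw [hk] at this
    exact this.symm
  line := by
    rintro u ⟨g, hg⟩ v hv huv
    have hk : g⁻¹ * u * g⁻¹⁻¹ = z := by rw [← hg]; group
    rw [← mem_Pt_conj g⁻¹, conj_mul', hk]
    refine h.line_z (conj_mem_Pt _ hv) ?_
    rw [← hk]; exact huv.conj _
  line_mem := by
    rintro u ⟨g, hg⟩ v hv huv w hw hwu hwv
    have hk : g⁻¹ * u * g⁻¹⁻¹ = z := by rw [← hg]; group
    by_cases hne : u = w
    · left; exact hne.symm
    right
    have hv' := conj_mem_Pt g⁻¹ hv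
    have hw' := conj_mem_Pt g⁻¹ hw
    have h1 : Adj z (g⁻¹ * v * g⁻¹⁻¹) := by rw [← hk]; exact huv.conj _
    have huw : Adj u w := by
      refine ⟨?_, hne⟩
      rw [← hg] at hwu ⊢
      rw [Qf_conj h.p.lz] at hwu
      exact ((h.p.lz.conj g).comm_z w hwu).symm
    have h2 : Adj z (g⁻¹ * w * g⁻¹⁻¹) := by rw [← hk]; exact huw.conj _
    have hvw : v * w = w * v := by
      obtain ⟨k, rfl⟩ := hv
      rw [Qf_conj h.p.lz] at hwv
      exact ((h.p.lz.conj k).comm_z w hwv).symm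
    have h3 := h.nn_z hv' h1 hw' h2 (comm_conj _ hvw)
    rw [← hk, ← conj_mul', conj_inj, conj_inj] at h3
    exact h3
  mem_mul := by
    rintro u ⟨g, hg⟩ v hv huv x hxu hxv
    have hk : g⁻¹ * u * g⁻¹⁻¹ = z := by rw [← hg]; group
    have hv' := conj_mem_Pt g⁻¹ hv
    have h1 : Adj z (g⁻¹ * v * g⁻¹⁻¹) := by rw [← hk]; exact huv.conj _
    have huvP : u * v ∈ Pt z := by
      rw [← mem_Pt_conj g⁻¹, conj_mul', hk]
      exact h.line_z hv' h1
    rw [← conj_mem_Qf h.p.lz g⁻¹ huvP, conj_mul', hk]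
    refine h.mem_mul_z hv' h1 ?_ ((conj_mem_Qf h.p.lz g⁻¹ hv).2 hxv)
    have h2 := (conj_mem_Qf h.p.lz g⁻¹ ⟨g, hg⟩).2 hxu
    rwa [hk, Qf_z h.p.lz] at h2
  uniq := by
    rintro u ⟨g, hg⟩ v hv w hw huv huw e heu hev hew heP he1
    have hk : g⁻¹ * u * g⁻¹⁻¹ = z := by rw [← hg]; group
    have h2 := (conj_mem_Qf h.p.lz g⁻¹ ⟨g, hg⟩).2 heu
    rw [hk, Qf_z h.p.lz] at h2
    have h3 := h.uniq_z (conj_mem_Pt g⁻¹ hv) (conj_mem_Pt g⁻¹ hw) (by rw [← hk]; exact huv.conj _)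
      (by rw [← hk]; exact huw.conj _) h2 ((conj_mem_Qf h.p.lz g⁻¹ hv).2 hev)
      ((conj_mem_Qf h.p.lz g⁻¹ hw).2 hew) (fun h4 => heP ((mem_Pt_conj g⁻¹).1 h4))
      (fun h4 => he1 (by
        have : g⁻¹ * e * g⁻¹⁻¹ = g⁻¹ * 1 * g⁻¹⁻¹ := by rw [h4]; group
        exact conj_inj.1 this))
    rw [← hk, ← conj_mul', conj_inj, conj_inj] at h3
    exact h3
  exists_line := by
    rintro u ⟨g, hg⟩ i hiu hii - -
    have hk : g⁻¹ * u * g⁻¹⁻¹ = z := by rw [← hg]; group
    have h2 := (conj_mem_Qf h.p.lz g⁻¹ ⟨g, hg⟩).2 hiu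
    rw [hk, Qf_z h.p.lz] at h2
    obtain ⟨v, hv, hzv, hiv⟩ := h.exists_line_z h2 (by
      rw [← conj_mul', hii]; group)
    have e : ∀ x, g * x * g⁻¹ = g * x * g⁻¹ := fun _ => rfl
    refine ⟨g * v * g⁻¹, conj_mem_Pt g hv, ?_, ?_⟩
    · rw [← hg]; exact hzv.conj g
    · rw [← conj_mem_Qf h.p.lz g hv] at hiv
      have e2 : g * (g⁻¹ * i * g⁻¹⁻¹) * g⁻¹ = i := by group
      rwa [e2] at hiv
  fix_two := by
    rintro u ⟨g, hg⟩ v hv w hw huv huw hne hne' x hxu hxx hxv hxw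
    have hk : g⁻¹ * u * g⁻¹⁻¹ = z := by rw [← hg]; group
    rw [← conj_mem_Qf h.p.lz g⁻¹ ⟨g, hg⟩, hk, Qf_z h.p.lz]
    have h2 := (conj_mem_Qf h.p.lz g⁻¹ ⟨g, hg⟩).2 hxx
    rw [hk, Qf_z h.p.lz, conj_mul'] at h2
    have key : ∀ t, (x * t * x⁻¹ = t ∨ x * t * x⁻¹ = u * t) →
        ((g⁻¹ * x * g⁻¹⁻¹) * (g⁻¹ * t * g⁻¹⁻¹) * (g⁻¹ * x * g⁻¹⁻¹)⁻¹ = g⁻¹ * t * g⁻¹⁻¹ ∨
         (g⁻¹ * x * g⁻¹⁻¹) * (g⁻¹ * t * g⁻¹⁻¹) * (g⁻¹ * x * g⁻¹⁻¹)⁻¹ = z * (g⁻¹ * t * g⁻¹⁻¹)) := by
      intro t ht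
      have e1 : (g⁻¹ * x * g⁻¹⁻¹) * (g⁻¹ * t * g⁻¹⁻¹) * (g⁻¹ * x * g⁻¹⁻¹)⁻¹ =
          g⁻¹ * (x * t * x⁻¹) * g⁻¹⁻¹ := by group
      rw [e1, ← hk, ← conj_mul', conj_inj, conj_inj]
      exact ht
    refine h.fix_two_z (conj_mem_Pt g⁻¹ hv) (conj_mem_Pt g⁻¹ hw) (by rw [← hk]; exact huv.conj _)
      (by rw [← hk]; exact huw.conj _) (fun h4 => hne (conj_inj.1 h4)) (fun h4 => hne' ?_) ?_ h2
      (key v hxv) (key w hxw)
    · rw [← hk, ← conj_mul', conj_inj] at h4
      exact h4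
    · have := comm_conj g⁻¹ hxu
      rwa [hk] at this
  outside := by
    rintro u ⟨g, hg⟩ i hii - hiu
    by_cases hiQ : i ∈ Qf Q z u
    · exact ⟨u, ⟨g, hg⟩, rfl, hiQ⟩
    have hk : g⁻¹ * u * g⁻¹⁻¹ = z := by rw [← hg]; group
    have h2 : g⁻¹ * i * g⁻¹⁻¹ ∉ Q := by
      intro h3
      apply hiQ
      rw [← conj_mem_Qf h.p.lz g⁻¹ ⟨g, hg⟩, hk, Qf_z h.p.lz]
      exact h3
    obtain ⟨c, hc, hcA⟩ := h.outside_z (i := g⁻¹ * i * g⁻¹⁻¹) (by rw [← conj_mul', hii]; group)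
      (by
        have := comm_conj g⁻¹ hiu
        rwa [hk] at this) h2
    have hcP : c * a * c⁻¹ ∈ Pt z := conj_mem_Pt c h.a_mem_Pt
    refine ⟨g * (c * a * c⁻¹) * g⁻¹, conj_mem_Pt g hcP, ?_, ?_⟩
    · rw [← hg]
      exact comm_conj g (h.comm_z (h.mem_Q_conj hc h.p.a_mem)).symm
    · have h3 := (conj_mem_Qf h.p.lz g hcP).2 (h.mem_Qf_conj.2 hcA)
      have e2 : g * (g⁻¹ * i * g⁻¹⁻¹) * g⁻¹ = i := by group
      rwa [e2] at h3
  count := by
    rintro u ⟨g, hg⟩ v hv huv E hEu hEv hEP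
    have hk : g⁻¹ * u * g⁻¹⁻¹ = z := by rw [← hg]; group
    have hkk : ∀ x, g⁻¹ * (g * x * g⁻¹) * g⁻¹⁻¹ = x := fun x => by group
    have hmem : ∀ x, x ∈ E.map (MulAut.conj g⁻¹).toMonoidHom ↔ g * x * g⁻¹ ∈ E := by
      intro x
      rw [mem_map, inv_inv]
    obtain ⟨w, hw, hzw, hne, hne', hwE⟩ := h.count_z (conj_mem_Pt g⁻¹ hv)
      (by rw [← hk]; exact huv.conj _) (E.map (MulAut.conj g⁻¹).toMonoidHom)
      (by
        intro e he
        rw [hmem] at he
        have h1 := (conj_mem_Qf h.p.lz g⁻¹ ⟨g, hg⟩).2 (hEu _ he)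
        rwa [hk, Qf_z h.p.lz, hkk] at h1)
      (by
        intro e he
        rw [hmem] at he
        have h1 := (conj_mem_Qf h.p.lz g⁻¹ hv).2 (hEv _ he)
        rwa [hkk] at h1)
      (by
        intro e he
        rw [hmem] at he
        intro h1
        exact hEP _ he ((mem_Pt_conj g).2 h1))
    refine ⟨g * w * g⁻¹, conj_mem_Pt g hw, ?_, ?_, ?_, ?_⟩
    · rw [← hg]; exact hzw.conj g
    · intro h1
      apply hne
      rw [← h1, hkk]
    · intro h1
      apply hne'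
      rw [← hk, ← conj_mul', ← h1, hkk]
    · intro e he
      have h1 := hwE (g⁻¹ * e * g⁻¹⁻¹) ((hmem _).2 (by
        have : g * (g⁻¹ * e * g⁻¹⁻¹) * g⁻¹ = e := by group
        rw [this]; exact he))
      have h2 := comm_conj g h1
      have e2 : g * (g⁻¹ * e * g⁻¹⁻¹) * g⁻¹ = e := by group
      rwa [e2] at h2
  ntrans := by
    rintro u ⟨g, hg⟩ v hv w hw huv huw
    have hk : g⁻¹ * u * g⁻¹⁻¹ = z := by rw [← hg]; group
    obtain ⟨c, hc, hca⟩ := h.tr (conj_mem_Pt g⁻¹ hv) (by rw [← hk]; exact huv.conj _)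
    obtain ⟨d, hd, hda⟩ := h.tr (conj_mem_Pt g⁻¹ hw) (by rw [← hk]; exact huw.conj _)
    refine ⟨g * (d * c⁻¹) * g⁻¹, ?_, ?_⟩
    · rw [← hg]
      apply comm_conj
      rw [mul_assoc, inv_comm hc, ← mul_assoc, hd, mul_assoc]
    · have e : g * (d * c⁻¹) * g⁻¹ * v * (g * (d * c⁻¹) * g⁻¹)⁻¹ =
          g * (d * (c⁻¹ * (g⁻¹ * v * g⁻¹⁻¹) * c) * d⁻¹) * g⁻¹ := by group
      rw [e, ← hca]
      have e2 : c⁻¹ * (c * a * c⁻¹) * c = a := by group
      rw [e2, hda]
      group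

/-- some involution of `D` is not a point -/
theorem exists_b [Finite G] (h : Hyp Q z A a) :
    ∃ b, b * b = 1 ∧ b ≠ 1 ∧ b ∉ Pt z ∧ b * z = z * b := by
  classical
  have hfin := h.cfg.finite
  obtain ⟨v, hv, hv0, hva⟩ : ∃ v ∈ h.p.D, v ≠ 0 ∧ v ≠ h.p.va := by
    by_contra hcon
    push Not at hcon
    have hsub : (h.p.D : Set h.p.lz.V) ⊆ {0, h.p.va} := by
      intro v hv
      by_cases hv0 : v = 0
      · exact Or.inl hv0
      · exact Or.inr (hcon v hv hv0)
    have h1 := Set.ncard_le_ncard hsub (Set.toFinite _)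
    have h2 : (h.p.D : Set h.p.lz.V).ncard = 16 := h.cfg.card_D
    have h8 := Set.ncard_insert_le (0 : h.p.lz.V) {h.p.va}
    rw [Set.ncard_singleton] at h8
    omega
  obtain ⟨x, hxA, rfl⟩ := hv
  refine ⟨x, h.p.sq_D x.2 hxA, ?_, ?_, h.comm_z x.2⟩
  · intro h1
    exact hv0 (h.p.lz.pr_eq_zero.2 (Or.inl h1))
  · intro hP
    have hxz : (x : G) ≠ z := fun h1 => hv0 (h.p.lz.pr_eq_zero.2 (Or.inr h1))
    have hxa : (x : G) * a = a * x := h.p.la.comm_z x hxA
    have h1 := h.nn_z h.a_mem_Pt ⟨h.p.comm_za.symm, h.p.ne.symm⟩ hP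
      ⟨(h.comm_z x.2).symm, hxz.symm⟩ hxa.symm
    apply hva
    rw [Pair.va, h.p.lz.pr_eq_pr]
    rcases h1 with h1 | h1
    · exact Or.inl h1
    · right; rw [h1]; exact h.p.comm_za.symm

/-- **The closing theorem**: `G` is generated by `C_G(z)` and any element moving `z` to an adjacent
conjugate. -/
theorem closing [Finite G] (h : Hyp Q z A a) (H : Subgroup G)
    (hCH : Subgroup.centralizer ({z} : Set G) ≤ H) {m : G} (hmH : m ∈ H)
    (hm : (m * z * m⁻¹) * z = z * (m * z * m⁻¹)) (hm' : m * z * m⁻¹ ≠ z) : H = ⊤ :=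
  h.isGeo.closing (z_mem_Pt z) (conj_mem_Pt m (z_mem_Pt z)) ⟨hm.symm, hm'.symm⟩
    (Cfsg.Agent.LargeExtra.TwoCentral.odd_index h.p.lz) h.exists_b H hCH hmH rfl

end Hyp

end Cfsg.Agent.TypeD4Two.NinePair
end

-- part: TrialityTwo/Nine
section
/-!
# Nine anticommuting involutions: coordinates of `2^(1+8)` (helper814)

`Nine z a` : involutions `a 0, …, a 8` with `a i * a j = z * (a j * a i)` (`i ≠ j`), `z` central of order two,
`a 8 = z * (a 0 * ⋯ * a 7)`.  The elements of the group generated are coded by `k < 512`: bits `0..7` the product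
`∏ a i` (increasing `i`), bit `8` the factor `z`.  `mu` is the product of codes, fast in the kernel.
-/

set_option autoImplicit false

namespace Cfsg.Agent.TrialityTwo.Nine

open Cfsg.Agent.LargeExtra.Model Cfsg.Agent.LargeExtra.Pres

/-- the commutator matrix of the nine-point group: all pairs of generators anticommute -/
def Bm (i : ℕ) : ℕ := 2 ^ i - 1

theorem triB : Tri Bm 8 := by decide +kernel
theorem nonB : Nondeg Bm 8 := by decide +kernel

/-- prefix parities: bit `j` is the parity of the bits `j+1, …, j+8` of `v` -/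
def lp (v : ℕ) : ℕ :=
  Nat.xor (Nat.xor (Nat.xor (Nat.shiftRight v 1) (Nat.shiftRight (Nat.shiftRight v 1) 1))
      (Nat.shiftRight (Nat.xor (Nat.shiftRight v 1) (Nat.shiftRight (Nat.shiftRight v 1) 1)) 2))
    (Nat.shiftRight (Nat.xor (Nat.xor (Nat.shiftRight v 1) (Nat.shiftRight (Nat.shiftRight v 1) 1))
      (Nat.shiftRight (Nat.xor (Nat.shiftRight v 1) (Nat.shiftRight (Nat.shiftRight v 1) 1)) 2)) 4)

/-- fold to the parity of the lowest eight bits -/
def pr8 (u : ℕ) : ℕ :=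
  Nat.xor (Nat.xor (Nat.xor u (Nat.shiftRight u 4)) (Nat.shiftRight (Nat.xor u (Nat.shiftRight u 4)) 2))
    (Nat.shiftRight (Nat.xor (Nat.xor u (Nat.shiftRight u 4)) (Nat.shiftRight (Nat.xor u (Nat.shiftRight u 4)) 2)) 1)

/-- the cocycle -/
def bt (v w : ℕ) : ℕ := Nat.land (pr8 (Nat.land (lp v) w)) 1

/-- product of codes -/
def mu (x y : ℕ) : ℕ :=
  Nat.xor (Nat.xor x y) (Nat.mul 256 (bt (Nat.land x 255) (Nat.land y 255)))

/-! ### the cocycle is the form of `XG Bm 8` -/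

theorem lp_xor (v w : ℕ) : lp (v ^^^ w) = lp v ^^^ lp w := by
  have e : ∀ x : ℕ, lp x = (((x >>> 1) ^^^ (x >>> 1 >>> 1)) ^^^ (((x >>> 1) ^^^ (x >>> 1 >>> 1)) >>> 2)) ^^^
      ((((x >>> 1) ^^^ (x >>> 1 >>> 1)) ^^^ (((x >>> 1) ^^^ (x >>> 1 >>> 1)) >>> 2)) >>> 4) := fun _ => rfl
  simp only [e, Nat.shiftRight_xor_distrib]
  generalize v >>> 1 >>> 1 >>> 2 >>> 4 = a1, v >>> 1 >>> 1 >>> 2 = a2, v >>> 1 >>> 1 >>> 4 = a3,
    v >>> 1 >>> 1 = a4, v >>> 1 >>> 2 >>> 4 = a5, v >>> 1 >>> 2 = a6, v >>> 1 >>> 4 = a7, v >>> 1 = a8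
  generalize w >>> 1 >>> 1 >>> 2 >>> 4 = b1, w >>> 1 >>> 1 >>> 2 = b2, w >>> 1 >>> 1 >>> 4 = b3,
    w >>> 1 >>> 1 = b4, w >>> 1 >>> 2 >>> 4 = b5, w >>> 1 >>> 2 = b6, w >>> 1 >>> 4 = b7, w >>> 1 = b8
  ac_rfl

theorem pr8_xor (v w : ℕ) : pr8 (v ^^^ w) = pr8 v ^^^ pr8 w := by
  have e : ∀ x : ℕ, pr8 x = ((x ^^^ (x >>> 4)) ^^^ ((x ^^^ (x >>> 4)) >>> 2)) ^^^
      (((x ^^^ (x >>> 4)) ^^^ ((x ^^^ (x >>> 4)) >>> 2)) >>> 1) := fun _ => rfl
  simp only [e, Nat.shiftRight_xor_distrib]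
  generalize v >>> 4 >>> 2 >>> 1 = a1, v >>> 4 >>> 2 = a2, v >>> 4 >>> 1 = a3, v >>> 4 = a4,
    v >>> 2 >>> 1 = a5, v >>> 2 = a6, v >>> 1 = a7
  generalize w >>> 4 >>> 2 >>> 1 = b1, w >>> 4 >>> 2 = b2, w >>> 4 >>> 1 = b3, w >>> 4 = b4,
    w >>> 2 >>> 1 = b5, w >>> 2 = b6, w >>> 1 = b7
  ac_rfl

theorem bt_eq (v w : ℕ) : bt v w = pr8 (lp v &&& w) &&& 1 := rfl

theorem bt_xor_left (v v' w : ℕ) : bt (v ^^^ v') w = bt v w ^^^ bt v' w := by
  simp only [bt_eq, lp_xor, Nat.and_xor_distrib_right, pr8_xor]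

theorem bt_xor_right (v w w' : ℕ) : bt v (w ^^^ w') = bt v w ^^^ bt v w' := by
  simp only [bt_eq, Nat.and_xor_distrib_left, Nat.and_xor_distrib_right, pr8_xor]

theorem lin_ext (n : ℕ) (f : ℕ → Bool) (g : ℕ → ℕ)
    (hf : ∀ v w, f (v ^^^ w) = (f v ^^ f w)) (hg : ∀ v w, g (v ^^^ w) = g v ^^^ g w)
    (h : ∀ i < n, g (2 ^ i) = (f (2 ^ i)).toNat) : ∀ v < 2 ^ n, g v = (f v).toNat := by
  have f0 : f 0 = false := by
    have := hf 0 0
    simpa using this
  have g0 : g 0 = 0 := by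
    have := hg 0 0
    simpa using this
  have hx : ∀ a b : Bool, (a ^^ b).toNat = a.toNat ^^^ b.toNat := by decide
  induction n with
  | zero =>
    intro v hv
    have : v = 0 := by simpa using hv
    rw [this, f0, g0]; rfl
  | succ n ih =>
    intro v hv
    by_cases hb : v.testBit n = true
    · have h1 : v ^^^ 2 ^ n < 2 ^ n := by
        apply Nat.lt_pow_two_of_testBit
        intro i hi
        rw [Nat.testBit_xor, Nat.testBit_two_pow]
        by_cases him : n = i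
        · subst him; simp [hb]
        · have : v.testBit i = false :=
            Nat.testBit_lt_two_pow (lt_of_lt_of_le hv (Nat.pow_le_pow_right (by norm_num) (by omega)))
          simp [this, him]
      have h2 := ih (fun i hi => h i (by omega)) _ h1
      have h3 : v = (v ^^^ 2 ^ n) ^^^ 2 ^ n := by rw [Nat.xor_assoc, Nat.xor_self, Nat.xor_zero]
      rw [h3, hf, hg, h2, h n (by omega), hx]
    · apply ih (fun i hi => h i (by omega))
      apply Nat.lt_pow_two_of_testBit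
      intro i hi
      by_cases him : i = n
      · subst him; simpa using hb
      · exact Nat.testBit_lt_two_pow
          (lt_of_lt_of_le hv (Nat.pow_le_pow_right (by norm_num) (by omega)))

theorem bt_eq_bf {v w : ℕ} (hv : v < 256) (hw : w < 256) : bt v w = (bf Bm 8 v w).toNat := by
  have h0 : ∀ i < 8, ∀ j < 8, bt (2 ^ i) (2 ^ j) = (bf Bm 8 (2 ^ i) (2 ^ j)).toNat := by decide +kernel
  have h1 : ∀ i < 8, ∀ w < 2 ^ 8, bt (2 ^ i) w = (bf Bm 8 (2 ^ i) w).toNat := fun i hi =>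
    lin_ext 8 (fun w => bf Bm 8 (2 ^ i) w) (fun w => bt (2 ^ i) w)
      (fun v w => bf_xor_right _ _ _ _ _) (fun v w => bt_xor_right _ _ _) (h0 i hi)
  exact lin_ext 8 (fun v => bf Bm 8 v w) (fun v => bt v w) (fun v v' => bf_xor_left _ _ _ _ _)
    (fun v v' => bt_xor_left _ _ _) (fun i hi => h1 i hi w hw) v hv

/-! ### the structure -/

/-- Nine anticommuting involutions with product `z`. -/
structure _root_.Cfsg.Agent.TrialityTwo.Nine {G : Type*} [Group G] (z : G) (a : ℕ → G) : Prop where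
  z_ne : z ≠ 1
  zz : z * z = 1
  comm : ∀ i < 9, a i * z = z * a i
  sq : ∀ i < 9, a i * a i = 1
  anti : ∀ i < 9, ∀ j < i, a i * a j = z * (a j * a i)
  prod : a 8 = z * prd a 8 255

/-- the element with code `k` -/
def ph {G : Type*} [Group G] (z : G) (a : ℕ → G) (k : ℕ) : G := zp z (k.testBit 8) * prd a 8 (k % 256)

section

variable {G : Type*} [Group G] {z : G} {a : ℕ → G}

theorem rels (h : Nine z a) : Rels Bm 8 z a where
  zz := h.zz
  comm i hi := h.comm i (by omega)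
  sq i hi := by
    have e : ∀ i < 8, (Bm i).testBit i = false := by decide +kernel
    rw [e i hi, h.sq i (by omega)]; rfl
  cm i hi j hj := by
    have e : ∀ i < 8, ∀ j < i, (Bm i).testBit j = true := by decide +kernel
    rw [e i hi j hj, h.anti i (by omega) j hj]; rfl

/-- decoding -/
def dec (k : ℕ) : XG Bm 8 := ⟨⟨k % 256, Nat.mod_lt _ (by norm_num)⟩, k.testBit 8⟩

theorem ph_dec (h : Nine z a) (k : ℕ) : ph z a k = lift (rels h) triB (dec k) := rfl

theorem land255 (x : ℕ) : Nat.land x 255 = x % 256 := by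
  have := Nat.and_two_pow_sub_one_eq_mod x 8
  simpa using this

theorem bt_le (v w : ℕ) : bt v w = 0 ∨ bt v w = 1 := by
  have : bt v w = pr8 (lp v &&& w) % 2 := by
    rw [bt_eq, Nat.and_one_is_mod]
  omega

theorem mu_eq (x y : ℕ) : mu x y = x ^^^ y ^^^ 256 * bt (x % 256) (y % 256) := by
  show Nat.xor (Nat.xor x y) (Nat.mul 256 (bt (Nat.land x 255) (Nat.land y 255))) = _
  rw [land255, land255]; rfl

theorem mu_lt {x y : ℕ} (hx : x < 512) (hy : y < 512) : mu x y < 512 := by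
  rw [mu_eq]
  have h1 : x ^^^ y < 2 ^ 9 := Nat.xor_lt_two_pow (by simpa using hx) (by simpa using hy)
  have h2 : 256 * bt (x % 256) (y % 256) < 2 ^ 9 := by
    rcases bt_le (x % 256) (y % 256) with h | h <;> rw [h] <;> norm_num
  simpa using Nat.xor_lt_two_pow h1 h2

theorem dec_mu (x y : ℕ) : dec (mu x y) = dec x * dec y := by
  have hb := bt_eq_bf (Nat.mod_lt x (by norm_num : 256 > 0)) (Nat.mod_lt y (by norm_num : 256 > 0))
  apply XG.ext'
  · rw [mul_v]
    show mu x y % 256 = (x % 256) ^^^ (y % 256)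
    rw [mu_eq]
    apply Nat.eq_of_testBit_eq
    intro i
    have e1 : ∀ w : ℕ, (w % 256).testBit i = (decide (i < 8) && w.testBit i) := fun w =>
      Nat.testBit_mod_two_pow w 8 i
    rw [e1, Nat.testBit_xor, Nat.testBit_xor, Nat.testBit_xor, e1, e1]
    by_cases hi : i < 8
    · have h3 : (256 * bt (x % 256) (y % 256)).testBit i = false := by
        rcases bt_le (x % 256) (y % 256) with h | h <;> rw [h]
        · simp
        · rw [mul_one]
          have : (2 ^ 8).testBit i = false := by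
            rw [Nat.testBit_two_pow]; simp; omega
          simpa using this
      simp [hi, h3]
    · simp [hi]
  · rw [mul_s]
    show (mu x y).testBit 8 = (x.testBit 8 ^^ y.testBit 8 ^^ bf Bm 8 (x % 256) (y % 256))
    rw [mu_eq, Nat.testBit_xor, Nat.testBit_xor, hb]
    congr 1
    cases bf Bm 8 (x % 256) (y % 256) <;> rfl

theorem ph_mul (h : Nine z a) (x y : ℕ) : ph z a (mu x y) = ph z a x * ph z a y := by
  rw [ph_dec h, ph_dec h, ph_dec h, dec_mu, map_mul]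

theorem ph_zero : ph z a 0 = 1 := by
  show zp z false * prd a 8 0 = 1
  rw [prd_zero]; simp [zp]

theorem ph_z : ph z a 256 = z := by
  show zp z true * prd a 8 0 = z
  rw [prd_zero]; simp [zp]

theorem ph_255 (h : Nine z a) : ph z a 511 = a 8 := by
  show zp z true * prd a 8 255 = a 8
  rw [h.prod]; rfl

/-- the codes of the nine points -/
def ptc (i : ℕ) : ℕ := bif Nat.blt i 8 then Nat.shiftLeft 1 i else 511

theorem ph_ptc (h : Nine z a) {i : ℕ} (hi : i < 9) : ph z a (ptc i) = a i := by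
  rcases Nat.lt_or_ge i 8 with h8 | h8
  · have e : ptc i = 2 ^ i := by
      have : ∀ i < 8, ptc i = 2 ^ i := by decide +kernel
      exact this i h8
    have e1 : (2 ^ i).testBit 8 = false := by
      have : ∀ i < 8, (2 ^ i).testBit 8 = false := by decide +kernel
      exact this i h8
    have e2 : 2 ^ i % 256 = 2 ^ i := by
      apply Nat.mod_eq_of_lt
      have : ∀ i < 8, 2 ^ i < 256 := by decide +kernel
      exact this i h8
    rw [e, ph, e1, e2, prd_two_pow, if_pos h8]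
    simp [zp]
  · have : i = 8 := by omega
    subst this
    exact ph_255 h

theorem ph_inj (h : Nine z a) {x y : ℕ} (hx : x < 512) (hy : y < 512) (he : ph z a x = ph z a y) :
    x = y := by
  rw [ph_dec h, ph_dec h] at he
  have h1 := lift_injective (rels h) triB nonB h.z_ne he
  have h2 : x % 256 = y % 256 := congrArg (fun t : XG Bm 8 => t.v.1) h1
  have h3 : x.testBit 8 = y.testBit 8 := congrArg XG.s h1
  have e : ∀ k < 512, k = k % 256 + 256 * (k.testBit 8).toNat := by decide +kernel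
  rw [e x hx, e y hy, h2, h3]

theorem exists_code (h : Nine z a) (x : XG Bm 8) : ∃ k < 512, ph z a k = lift (rels h) triB x := by
  have e : ∀ v < 256, ∀ s : Bool, ((v + 256 * s.toNat) % 256 = v ∧ (v + 256 * s.toNat).testBit 8 = s) := by
    decide +kernel
  refine ⟨x.v.1 + 256 * x.s.toNat, ?_, ?_⟩
  · have := x.v.2
    have h2 : x.s.toNat ≤ 1 := Bool.toNat_le x.s
    have h3 : (x.v.1 : ℕ) < 2 ^ 8 := this
    omega
  · rw [ph_dec h]
    congr 1
    apply XG.ext'
    · exact (e _ x.v.2 x.s).1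
    · exact (e _ x.v.2 x.s).2

/-- Codes exhaust `Q` when `|Q| = 2^9`. -/
theorem exists_ph [Finite G] (h : Nine z a) {Q : Subgroup G} (hz : z ∈ Q) (ha : ∀ i < 9, a i ∈ Q)
    (hQ : Nat.card Q = 2 ^ 9) {x : G} (hx : x ∈ Q) : ∃ k < 512, ph z a k = x := by
  have hle : (lift (rels h) triB).range ≤ Q := by
    rintro _ ⟨y, rfl⟩
    rw [lift_apply]
    refine mul_mem ?_ ?_
    · unfold zp; split_ifs
      · exact hz
      · exact one_mem _
    · have : ∀ k ≤ 8, ∀ v, prd a k v ∈ Q := by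
        intro k
        induction k with
        | zero => intro _ v; exact one_mem _
        | succ k ih =>
          intro hk v
          refine mul_mem (ih (by omega) v) ?_
          unfold zp; split_ifs
          · exact ha k (by omega)
          · exact one_mem _
      exact this 8 (le_refl 8) _
  have hc : Nat.card (lift (rels h) triB).range = 2 ^ 9 := by
    rw [← Nat.card_congr (MonoidHom.ofInjective (lift_injective (rels h) triB nonB h.z_ne)).toEquiv]
    exact card_XG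
  have he := Subgroup.eq_of_le_of_card_ge hle (by rw [hc, hQ])
  rw [← he] at hx
  obtain ⟨y, rfl⟩ := hx
  exact exists_code h y

theorem ph_mem {Q : Subgroup G} (hz : z ∈ Q) (ha : ∀ i < 9, a i ∈ Q) (k : ℕ) :
    ph z a k ∈ Q := by
  refine mul_mem ?_ ?_
  · unfold zp; split_ifs
    · exact hz
    · exact one_mem _
  · have : ∀ k ≤ 8, ∀ v, prd a k v ∈ Q := by
      intro k
      induction k with
      | zero => intro _ v; exact one_mem _
      | succ k ih =>
        intro hk v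
        refine mul_mem (ih (by omega) v) ?_
        unfold zp; split_ifs
        · exact ha k (by omega)
        · exact one_mem _
    exact this 8 (le_refl 8) _

/-! ### the action of permutations -/

/-- digits of a code of a permutation of the nine points -/
def gt (p i : ℕ) : ℕ := Nat.land (Nat.shiftRight p (Nat.mul 4 i)) 15

/-- the image of a code under a permutation of the nine points -/
def apk (p x : ℕ) : ℕ → ℕ
  | 0 => Nat.land x 256
  | k + 1 => bif Nat.testBit x k then mu (apk p x k) (ptc (gt p k)) else apk p x k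

theorem apk_spec (h : Nine z a) {c : G} (hc : c * z = z * c) {p : ℕ} (hp : ∀ i < 8, gt p i < 9)
    (hca : ∀ i < 8, c * a i * c⁻¹ = a (gt p i)) (x : ℕ) (hx : x < 512) :
    c * ph z a x * c⁻¹ = ph z a (apk p x 8) := by
  have hz : ∀ s : Bool, c * zp z s * c⁻¹ = zp z s := by
    intro s; cases s
    · show c * 1 * c⁻¹ = 1; group
    · show c * z * c⁻¹ = z; rw [hc]; group
  have e : ∀ x < 512, Nat.land x 256 = (bif x.testBit 8 then 256 else 0) := by decide +kernel
  have key : ∀ k ≤ 8, ph z a (apk p x k) = zp z (x.testBit 8) * (c * prd a k x * c⁻¹) := by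
    intro k
    induction k with
    | zero =>
      intro _
      show ph z a (Nat.land x 256) = zp z (x.testBit 8) * (c * 1 * c⁻¹)
      rw [e x hx]
      cases x.testBit 8
      · show ph z a 0 = 1 * (c * 1 * c⁻¹)
        rw [ph_zero]; group
      · show ph z a 256 = z * (c * 1 * c⁻¹)
        rw [ph_z]; group
    | succ k ih =>
      intro hk
      have ih' := ih (by omega)
      show ph z a (bif x.testBit k then mu (apk p x k) (ptc (gt p k)) else apk p x k) =
        zp z (x.testBit 8) * (c * (prd a k x * zp (a k) (x.testBit k)) * c⁻¹)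
      cases hb : x.testBit k
      · show ph z a (apk p x k) = zp z (x.testBit 8) * (c * (prd a k x * 1) * c⁻¹)
        rw [mul_one, ih']
      · show ph z a (mu (apk p x k) (ptc (gt p k))) = zp z (x.testBit 8) * (c * (prd a k x * a k) * c⁻¹)
        rw [ph_mul h, ph_ptc h (hp k (by omega)), ih', ← hca k (by omega)]
        group
  rw [key 8 (le_refl 8)]
  have h1 : prd a 8 x = prd a 8 (x % 256) := by
    have : ∀ k ≤ 8, prd a k x = prd a k (x % 256) := by
      intro k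
      induction k with
      | zero => intro _; rfl
      | succ k ih =>
        intro hk
        show prd a k x * zp (a k) (x.testBit k) = prd a k (x % 256) * zp (a k) ((x % 256).testBit k)
        have : (x % 256).testBit k = x.testBit k := by
          have e1 := Nat.testBit_mod_two_pow x 8 k
          have hk8 : k < 8 := hk
          simp only [hk8, decide_true, Bool.true_and] at e1
          exact e1
        rw [ih (by omega), this]
    exact this 8 (le_refl 8)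
  rw [h1, ph]
  calc c * (zp z (x.testBit 8) * prd a 8 (x % 256)) * c⁻¹
      = (c * zp z (x.testBit 8) * c⁻¹) * (c * prd a 8 (x % 256) * c⁻¹) := by group
    _ = _ := by rw [hz]

end

end Cfsg.Agent.TrialityTwo.Nine
end

-- part: TrialityTwo/Perm
section
/-!
# Codes of permutations of the nine points, elements of `C(z)` acting on them (helper814)
-/

set_option autoImplicit false

namespace Cfsg.Agent.TrialityTwo.Perm

open Cfsg.Agent.LargeExtra.Model Cfsg.Agent.LargeExtra.Pres Cfsg.Agent.TrialityTwo.Nine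
open Cfsg.Agent.Co2Type.Quad

theorem land15 (x : ℕ) : Nat.land x 15 = x % 16 := by
  have := Nat.and_two_pow_sub_one_eq_mod x 4
  simpa using this

theorem gt_eq (p i : ℕ) : gt p i = p / 16 ^ i % 16 := by
  show Nat.land (Nat.shiftRight p (4 * i)) 15 = _
  rw [land15]
  have : Nat.shiftRight p (4 * i) = p / 16 ^ i := by
    have e := Nat.shiftRight_eq_div_pow p (4 * i)
    rw [pow_mul] at e
    simpa using e
  rw [this]

theorem gt_lt (p i : ℕ) : gt p i < 16 := by rw [gt_eq]; exact Nat.mod_lt _ (by norm_num)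

/-- the code with digits `f 0, …, f (n-1)` -/
def mkp (f : ℕ → ℕ) : ℕ → ℕ
  | 0 => 0
  | n + 1 => Nat.add (mkp f n) (Nat.mul (f n) (Nat.pow 16 n))

theorem mkp_succ (f : ℕ → ℕ) (n : ℕ) : mkp f (n + 1) = mkp f n + f n * 16 ^ n := rfl

theorem mkp_lt {f : ℕ → ℕ} (hf : ∀ i, f i < 16) (n : ℕ) : mkp f n < 16 ^ n := by
  induction n with
  | zero => exact Nat.one_pos
  | succ n ih =>
    rw [mkp_succ]
    have h1 : f n * 16 ^ n ≤ 15 * 16 ^ n := Nat.mul_le_mul_right _ (by have := hf n; omega)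
    have h2 : 16 ^ (n + 1) = 16 * 16 ^ n := by ring
    omega

theorem gt_mkp {f : ℕ → ℕ} (hf : ∀ i, f i < 16) {n i : ℕ} (hi : i < n) : gt (mkp f n) i = f i := by
  induction n with
  | zero => omega
  | succ n ih =>
    rw [gt_eq, mkp_succ]
    rcases Nat.lt_or_ge i n with h | h
    · have h1 : f n * 16 ^ n = 16 ^ i * (16 * (f n * 16 ^ (n - i - 1))) := by
        have e0 : (16 : ℕ) ^ n = 16 ^ i * (16 * 16 ^ (n - i - 1)) := by
          rw [← pow_succ', ← pow_add]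
          congr 1
          omega
        rw [e0]; ring
      rw [h1, Nat.add_mul_div_left _ _ (by positivity), Nat.add_mul_mod_self_left]
      have := ih h
      rwa [gt_eq] at this
    · have : i = n := by omega
      subst this
      rw [mul_comm, Nat.add_mul_div_left _ _ (by positivity), Nat.div_eq_of_lt (mkp_lt hf i), zero_add,
        Nat.mod_eq_of_lt (hf i)]

/-- composition -/
def cp (p q : ℕ) : ℕ := mkp (fun i => gt p (gt q i)) 9

theorem gt_cp (p q : ℕ) {i : ℕ} (hi : i < 9) : gt (cp p q) i = gt p (gt q i) :=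
  gt_mkp (f := fun i => gt p (gt q i)) (fun i => gt_lt p _) hi

/-- the identity -/
def idp : ℕ := 0x876543210

theorem gt_idp {i : ℕ} (hi : i < 9) : gt idp i = i := by
  have : ∀ i < 9, gt idp i = i := by decide +kernel
  exact this i hi

/-- bounded quantifier -/
def allN (f : ℕ → Bool) : ℕ → Bool
  | 0 => true
  | k + 1 => f k && allN f k

theorem allN_iff {f : ℕ → Bool} {n : ℕ} : allN f n = true ↔ ∀ i < n, f i = true := by
  induction n with
  | zero => exact ⟨fun _ i hi => absurd hi (by omega), fun _ => rfl⟩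
  | succ n ih =>
    show (f n && allN f n) = true ↔ _
    rw [Bool.and_eq_true, ih]
    constructor
    · rintro ⟨h1, h2⟩ i hi
      rcases Nat.lt_or_ge i n with h | h
      · exact h2 i h
      · have : i = n := by omega
        rw [this]; exact h1
    · intro h
      exact ⟨h n (by omega), fun i hi => h i (by omega)⟩

/-- `p` is the code of an injective map of `{0, …, 8}` which preserves the product -/
def vp (p : ℕ) : Bool :=
  allN (fun i => Nat.blt (gt p i) 9 && allN (fun j => Nat.beq i j || !Nat.beq (gt p i) (gt p j)) 9) 9 &&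
    Nat.beq (apk p 511 8) (ptc (gt p 8))

theorem vp_lt {p : ℕ} (h : vp p = true) {i : ℕ} (hi : i < 9) : gt p i < 9 := by
  unfold vp at h
  rw [Bool.and_eq_true, allN_iff] at h
  have := h.1 i hi
  rw [Bool.and_eq_true] at this
  simpa using this.1

theorem vp_inj {p : ℕ} (h : vp p = true) {i j : ℕ} (hi : i < 9) (hj : j < 9) (hij : gt p i = gt p j) :
    i = j := by
  unfold vp at h
  rw [Bool.and_eq_true, allN_iff] at h
  have := h.1 i hi
  rw [Bool.and_eq_true, allN_iff] at this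
  have h2 := this.2 j hj
  rw [Bool.or_eq_true] at h2
  rcases h2 with h2 | h2
  · simpa using h2
  · rw [hij] at h2
    simp at h2

theorem vp_even {p : ℕ} (h : vp p = true) : apk p 511 8 = ptc (gt p 8) := by
  unfold vp at h
  rw [Bool.and_eq_true] at h
  simpa using h.2

/-! ### the action -/

section

variable {G : Type*} [Group G]

/-- `c` induces `p` on the nine points up to signs -/
def Act (z : G) (a : ℕ → G) (c : G) (p : ℕ) : Prop :=
  ∀ i < 9, c * a i * c⁻¹ = a (gt p i) ∨ c * a i * c⁻¹ = z * a (gt p i)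

/-- `c` induces `p` on the nine points -/
def Sl (a : ℕ → G) (c : G) (p : ℕ) : Prop := ∀ i < 9, c * a i * c⁻¹ = a (gt p i)

variable {z : G} {a : ℕ → G}

theorem Sl.act {c : G} {p : ℕ} (h : Sl a c p) : Act z a c p := fun i hi => Or.inl (h i hi)

theorem Act.one : Act z a 1 idp := fun i hi => by left; rw [gt_idp hi]; group

theorem Sl.one : Sl a 1 idp := fun i hi => by rw [gt_idp hi]; group

theorem Sl.mul {c c' : G} {p p' : ℕ} (h : Sl a c p) (h' : Sl a c' p') (hp : vp p' = true) :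
    Sl a (c * c') (cp p p') := by
  intro i hi
  rw [gt_cp p p' hi, ← h _ (vp_lt hp hi), ← h' i hi]
  group

theorem Act.mul {c c' : G} {p p' : ℕ} (hc : c * z = z * c) (hz : z * z = 1) (h : Act z a c p)
    (h' : Act z a c' p') (hp : vp p' = true) : Act z a (c * c') (cp p p') := by
  intro i hi
  have e : c * c' * a i * (c * c')⁻¹ = c * (c' * a i * c'⁻¹) * c⁻¹ := by group
  have e2 : ∀ x : G, c * (z * x) * c⁻¹ = z * (c * x * c⁻¹) := by
    intro x
    calc c * (z * x) * c⁻¹ = (c * z) * x * c⁻¹ := by group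
      _ = z * (c * x * c⁻¹) := by rw [hc]; group
  rw [e, gt_cp p p' hi]
  rcases h' i hi with h1 | h1 <;> rcases h _ (vp_lt hp hi) with h2 | h2
  · left; rw [h1, h2]
  · right; rw [h1, h2]
  · right; rw [h1, e2, h2]
  · left; rw [h1, e2, h2, ← mul_assoc, hz, one_mul]

/-- a left inverse code gives the inverse element -/
theorem Sl.inv {c : G} {p q : ℕ} (h : Sl a c p) (hq : ∀ i < 9, gt q i < 9 ∧ gt p (gt q i) = i) :
    Sl a c⁻¹ q := by
  intro i hi
  obtain ⟨h1, h2⟩ := hq i hi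
  have := h (gt q i) h1
  rw [h2] at this
  rw [← this]; group

theorem Act.inv {c : G} {p q : ℕ} (hc : c * z = z * c) (hz : z * z = 1) (h : Act z a c p)
    (hq : ∀ i < 9, gt q i < 9 ∧ gt p (gt q i) = i) : Act z a c⁻¹ q := by
  intro i hi
  obtain ⟨h1, h2⟩ := hq i hi
  rcases h (gt q i) h1 with h3 | h3
  · left; rw [h2] at h3; rw [← h3]; group
  · right
    rw [h2] at h3
    have h4 : a i = z * (c * a (gt q i) * c⁻¹) := by rw [h3, ← mul_assoc, hz, one_mul]
    have h5 : c⁻¹ * z = z * c⁻¹ := by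
      calc c⁻¹ * z = c⁻¹ * (z * c) * c⁻¹ := by group
        _ = c⁻¹ * (c * z) * c⁻¹ := by rw [hc]
        _ = z * c⁻¹ := by group
    rw [h4]
    calc c⁻¹ * (z * (c * a (gt q i) * c⁻¹)) * c⁻¹⁻¹ = (c⁻¹ * z) * c * a (gt q i) := by group
      _ = z * a (gt q i) := by rw [h5]; group

theorem Sl.congr {c : G} {p q : ℕ} (h : Sl a c p) (hpq : ∀ i < 9, gt p i = gt q i) : Sl a c q :=
  fun i hi => by rw [← hpq i hi]; exact h i hi

theorem Act.congr {c : G} {p q : ℕ} (h : Act z a c p) (hpq : ∀ i < 9, gt p i = gt q i) :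
    Act z a c q := fun i hi => by rw [← hpq i hi]; exact h i hi

theorem ne_point (n : Nine z a) {i j : ℕ} (hi : i < 9) (hj : j < 9) (hij : i ≠ j) :
    a i ≠ a j ∧ a i ≠ z * a j := by
  have e : ∀ i < 9, ∀ j < 9, i = j ∨ (ptc i ≠ ptc j ∧ ptc i ≠ mu 256 (ptc j) ∧ ptc i < 512 ∧
      ptc j < 512 ∧ mu 256 (ptc j) < 512) := by decide +kernel
  obtain ⟨h1, h2, h3, h4, h5⟩ := (e i hi j hj).resolve_left hij
  refine ⟨fun h => h1 (ph_inj n h3 h4 ?_), fun h => h2 (ph_inj n h3 h5 ?_)⟩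
  · rw [ph_ptc n hi, ph_ptc n hj, h]
  · rw [ph_mul n, ph_z, ph_ptc n hi, ph_ptc n hj, h]

/-- the code induced is unique -/
theorem Act.unique (n : Nine z a) {c : G} {p q : ℕ} (h : Act z a c p) (h' : Act z a c q)
    (hp : ∀ i < 9, gt p i < 9) (hq : ∀ i < 9, gt q i < 9) : ∀ i < 9, gt p i = gt q i := by
  intro i hi
  by_contra hne
  have key : ∀ i < 9, ∀ j < 9, i ≠ j → a i ≠ a j ∧ a i ≠ z * a j := by
    exact fun i hi j hj hij => ne_point n hi hj hij
  have hk := key _ (hp i hi) _ (hq i hi) hne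
  have hzz : ∀ x y : G, z * x = z * y → x = y := fun x y h => mul_left_cancel h
  have hk' := key _ (hq i hi) _ (hp i hi) (Ne.symm hne)
  rcases h i hi with h1 | h1 <;> rcases h' i hi with h2 | h2
  · exact hk.1 (h1.symm.trans h2)
  · exact hk.2 (h1.symm.trans h2)
  · exact hk'.2 (h2.symm.trans h1)
  · exact hk.1 (hzz _ _ (h1.symm.trans h2))

theorem anti' (n : Nine z a) {i j : ℕ} (hi : i < 9) (hj : j < 9) (hij : i ≠ j) :
    a i * a j = z * (a j * a i) := by
  rcases Nat.lt_or_ge j i with h | h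
  · exact n.anti i hi j h
  · have := n.anti j hj i (by omega)
    rw [this, ← mul_assoc, n.zz, one_mul]

/-- Signs can be removed by an element of the group generated by the nine points. -/
theorem exists_sl (n : Nine z a) {c : G} (hc : c * z = z * c) {p : ℕ} (hp : vp p = true)
    (h : Act z a c p) : ∃ k < 512, Sl a (ph z a k * c) p := by
  -- remove the signs one after the other
  have hcz : ∀ k, ph z a k * z = z * ph z a k := by
    intro k
    have e1 : ph z a k * z = ph z a (mu k 256) := by rw [ph_mul n, ph_z]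
    have e2 : z * ph z a k = ph z a (mu 256 k) := by rw [ph_mul n, ph_z]
    have e3 : ∀ k : ℕ, mu k 256 = mu 256 k := by
      intro k
      rw [mu_eq, mu_eq]
      have : bt (k % 256) (256 % 256) = bt (256 % 256) (k % 256) := by
        have h1 := bt_xor_left 0 0 (k % 256)
        have h2 := bt_xor_right (k % 256) 0 0
        simp only [Nat.xor_self] at h1 h2
        rw [Nat.mod_self, h1, h2]
      rw [this, Nat.xor_comm k 256]
    rw [e1, e2, e3]
  have step : ∀ m ≤ 8, ∃ k < 512, Act z a (ph z a k * c) p ∧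
      ∀ i < m, (ph z a k * c) * a i * (ph z a k * c)⁻¹ = a (gt p i) := by
    intro m
    induction m with
    | zero => exact fun _ => ⟨0, by norm_num, by rw [ph_zero, one_mul]; exact h, fun i hi => absurd hi (by omega)⟩
    | succ m ih =>
      intro hm
      obtain ⟨k, hk, hA, hS⟩ := ih (by omega)
      rcases hA m (by omega) with h1 | h1
      · refine ⟨k, hk, hA, fun i hi => ?_⟩
        rcases Nat.lt_or_ge i m with h2 | h2
        · exact hS i h2
        · have : i = m := by omega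
          rw [this]; exact h1
      · -- multiply by `w = a (p m) * a (p 8)`
        have hm9 : gt p m < 9 := vp_lt hp (by omega)
        have h89 : gt p 8 < 9 := vp_lt hp (by norm_num)
        have hmn : gt p m ≠ gt p 8 := fun he => by
          have := vp_inj hp (by omega) (by norm_num) he
          omega
        have hw : ph z a (mu (ptc (gt p m)) (ptc (gt p 8))) = a (gt p m) * a (gt p 8) := by
          rw [ph_mul n, ph_ptc n hm9, ph_ptc n h89]
        have hinv : ∀ i < 9, (a i)⁻¹ = a i := fun i hi => inv_eq_of_mul_eq_one_left (n.sq i hi)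
        have hptc : ∀ i < 9, ptc i < 512 := by decide +kernel
        have e : ∀ x : G, (ph z a (mu (ptc (gt p m)) (ptc (gt p 8))) * (ph z a k * c)) * x *
            (ph z a (mu (ptc (gt p m)) (ptc (gt p 8))) * (ph z a k * c))⁻¹ =
            a (gt p m) * (a (gt p 8) * (ph z a k * c * x * (ph z a k * c)⁻¹) * a (gt p 8)) * a (gt p m) := by
          intro x
          rw [hw, mul_inv_rev, mul_inv_rev (a (gt p m)), hinv _ hm9, hinv _ h89]
          group
        -- conjugation by a point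
        have cj : ∀ j < 9, ∀ i < 9, a j * a i * a j = if i = j then a i else z * a i := by
          intro j hj i hi
          split_ifs with hij
          · rw [hij, n.sq j hj, one_mul]
          · rw [anti' n hj hi (fun h => hij h.symm), mul_assoc, mul_assoc, n.sq j hj, mul_one]
        have cjz : ∀ j < 9, ∀ x : G, a j * (z * x) * a j = z * (a j * x * a j) := by
          intro j hj x
          rw [← mul_assoc (a j), n.comm j hj]; simp only [mul_assoc]
        have hz2 : ∀ x : G, z * (z * x) = x := fun x => by rw [← mul_assoc, n.zz, one_mul]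
        refine ⟨mu (mu (ptc (gt p m)) (ptc (gt p 8))) k, mu_lt (mu_lt (hptc _ hm9) (hptc _ h89)) hk, ?_, ?_⟩
        · intro i hi
          have hi9 : gt p i < 9 := vp_lt hp hi
          rw [ph_mul n, mul_assoc (ph z a _) (ph z a _) c, e]
          rcases hA i hi with h2 | h2
          · rw [h2, cj _ h89 _ hi9]
            split_ifs
            · rw [cj _ hm9 _ hi9]; split_ifs
              · left; rfl
              · right; rfl
            · rw [cjz _ hm9, cj _ hm9 _ hi9]; split_ifs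
              · right; rfl
              · left; rw [hz2]
          · rw [h2, cjz _ h89, cj _ h89 _ hi9]
            split_ifs
            · rw [cjz _ hm9, cj _ hm9 _ hi9]; split_ifs
              · right; rfl
              · left; rw [hz2]
            · rw [hz2, cj _ hm9 _ hi9]; split_ifs
              · left; rfl
              · right; rfl
        · intro i hi
          rw [ph_mul n, mul_assoc (ph z a _) (ph z a _) c, e]
          rcases Nat.lt_or_ge i m with h2 | h2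
          · have hi9 : gt p i < 9 := vp_lt hp (by omega)
            have hne8 : gt p i ≠ gt p 8 := fun he => by
              have := vp_inj hp (by omega) (by norm_num) he
              omega
            have hnem : gt p i ≠ gt p m := fun he => by
              have := vp_inj hp (by omega) (by omega) he
              omega
            rw [hS i h2, cj _ h89 _ hi9, if_neg hne8, cjz _ hm9, cj _ hm9 _ hi9, if_neg hnem, hz2]
          · have : i = m := by omega
            subst this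
            rw [h1, cjz _ h89, cj _ h89 _ hm9, if_neg hmn, hz2, cj _ hm9 _ hm9, if_pos rfl]
  obtain ⟨k, hk, hA, hS⟩ := step 8 (le_refl 8)
  refine ⟨k, hk, fun i hi => ?_⟩
  rcases Nat.lt_or_ge i 8 with h2 | h2
  · exact hS i h2
  · have : i = 8 := by omega
    subst this
    have hcz' : (ph z a k * c) * z = z * (ph z a k * c) := by
      rw [mul_assoc, hc, ← mul_assoc, hcz, mul_assoc]
    have h3 := apk_spec n hcz' (p := p) (fun i hi => vp_lt hp (by omega)) hS 511 (by norm_num)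
    rw [vp_even hp, ph_ptc n (vp_lt hp (by norm_num)), ph_255 n] at h3
    exact h3

end

end Cfsg.Agent.TrialityTwo.Perm
end

-- part: TrialityTwo/Lift
section
/-!
# Lifting `L₂(8)` from the permutations of the nine points (helper814)
-/

set_option autoImplicit false

namespace Cfsg.Agent.TrialityTwo.Lift

open Cfsg.Agent.LargeExtra.Model Cfsg.Agent.LargeExtra.Pres Cfsg.Agent.TrialityTwo.Nine
open Cfsg.Agent.TrialityTwo.Perm
open Cfsg.Agent.Co2Type.Quad

/-- `u ↦ u + 1` -/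
def pe : ℕ := 0x467385120
/-- `u ↦ 1/u` -/
def pn : ℕ := 0x345678201
/-- `u ↦ μ⁻¹ u` -/
def pd : ℕ := 0x765432810
/-- `u ↦ μ u` -/
def pdi : ℕ := 0x287654310

/-- powers of a code -/
def ppow (p : ℕ) : ℕ → ℕ
  | 0 => idp
  | k + 1 => cp (ppow p k) p

/-- The large extraspecial group with its nine points. -/
structure _root_.Cfsg.Agent.TrialityTwo.Ctx {G : Type*} [Group G] (Q : Subgroup G) (z : G) (a : ℕ → G) : Prop where
  large : Large Q z
  nine : Nine z a
  mem : ∀ i < 9, a i ∈ Q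
  card : Nat.card Q = 2 ^ 9

section signs

variable {G : Type*} [Group G] {z : G}

/-- `x y = z^s y x` -/
def SC (z : G) (s : Bool) (x y : G) : Prop := x * y = zp z s * (y * x)

theorem SC.mul_right {s s' : Bool} {x y w : G} (hz : z * z = 1) (hy : y * z = z * y)
    (h : SC z s x y) (h' : SC z s' x w) : SC z (s ^^ s') x (y * w) := by
  unfold SC at *
  rw [zp_xor hz, ← mul_assoc, h, mul_assoc, mul_assoc, h', ← mul_assoc y, zp_comm hy]
  simp only [mul_assoc]

theorem SC.inv_right {s : Bool} {x y : G} (hz : z * z = 1) (hy : y * z = z * y)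
    (h : SC z s x y) : SC z s x y⁻¹ := by
  unfold SC at *
  have h1 : zp z s * zp z s = 1 := by rw [← zp_xor hz]; cases s <;> rfl
  have h2 : y⁻¹ * zp z s = zp z s * y⁻¹ := by
    have := zp_comm hy s
    calc y⁻¹ * zp z s = y⁻¹ * (zp z s * y) * y⁻¹ := by group
      _ = y⁻¹ * (y * zp z s) * y⁻¹ := by rw [this]
      _ = _ := by group
  calc x * y⁻¹ = y⁻¹ * (y * x) * y⁻¹ := by group
    _ = y⁻¹ * ((zp z s * zp z s) * (y * x)) * y⁻¹ := by rw [h1, one_mul]
    _ = y⁻¹ * (zp z s * (x * y)) * y⁻¹ := by rw [h, ← mul_assoc (zp z s)]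
    _ = (y⁻¹ * zp z s) * x := by group
    _ = zp z s * (y⁻¹ * x) := by rw [h2, mul_assoc]

theorem SC.symm {s : Bool} {x y : G} (hz : z * z = 1) (h : SC z s x y) : SC z s y x := by
  unfold SC at *
  have h1 : zp z s * zp z s = 1 := by rw [← zp_xor hz]; cases s <;> rfl
  rw [h, ← mul_assoc, h1, one_mul]

theorem SC.self (x : G) : SC z false x x := by unfold SC; simp [zp]

theorem SC.conj {s : Bool} {x y d : G} (hd : d * z = z * d) (h : SC z s x y) :
    SC z s (d⁻¹ * x * d) (d⁻¹ * y * d) := by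
  unfold SC at *
  have h2 : d⁻¹ * zp z s = zp z s * d⁻¹ := by
    have := zp_comm hd s
    calc d⁻¹ * zp z s = d⁻¹ * (zp z s * d) * d⁻¹ := by group
      _ = d⁻¹ * (d * zp z s) * d⁻¹ := by rw [this]
      _ = _ := by group
  calc d⁻¹ * x * d * (d⁻¹ * y * d) = d⁻¹ * (x * y) * d := by group
    _ = (d⁻¹ * zp z s) * (y * x) * d := by rw [h]; group
    _ = _ := by rw [h2]; group

/-- The translations commute and are involutions. -/
theorem translations {d e : G} (hz : z * z = 1) (hz1 : z ≠ 1) (hd : d * z = z * d) (he : e * z = z * e)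
    (hd7 : d ^ 7 = 1) (h : e * (d⁻¹ * e * d) * ((d ^ 3)⁻¹ * e * d ^ 3) = 1)
    (hs : ∃ s, SC z s e (d⁻¹ * e * d)) (hq : e * e = 1 ∨ e * e = z) :
    e * e = 1 ∧ e * (d⁻¹ * e * d) = (d⁻¹ * e * d) * e := by
  obtain ⟨s, hs⟩ := hs
  let f : ℕ → G := fun i => (d ^ i)⁻¹ * e * d ^ i
  have f0 : f 0 = e := by simp [f]
  have fs : ∀ i, f (i + 1) = d⁻¹ * f i * d := by
    intro i
    show (d ^ (i + 1))⁻¹ * e * d ^ (i + 1) = d⁻¹ * ((d ^ i)⁻¹ * e * d ^ i) * d
    rw [pow_succ]; group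
  have f1 : f 1 = d⁻¹ * e * d := by rw [fs, f0]
  have f7 : ∀ i, f (i + 7) = f i := by
    intro i
    show (d ^ (i + 7))⁻¹ * e * d ^ (i + 7) = (d ^ i)⁻¹ * e * d ^ i
    rw [pow_add, hd7, mul_one]
  have fz : ∀ i, f i * z = z * f i := by
    intro i
    induction i with
    | zero => rw [f0]; exact he
    | succ i ih =>
      rw [fs]
      have hdi : d⁻¹ * z = z * d⁻¹ := by
        calc d⁻¹ * z = d⁻¹ * (z * d) * d⁻¹ := by group
          _ = d⁻¹ * (d * z) * d⁻¹ := by rw [hd]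
          _ = _ := by group
      calc d⁻¹ * f i * d * z = d⁻¹ * f i * (d * z) := by group
        _ = d⁻¹ * (f i * z) * d := by rw [hd]; group
        _ = (d⁻¹ * z) * f i * d := by rw [ih]; group
        _ = z * (d⁻¹ * f i * d) := by rw [hdi]; group
  have h3 : ∀ i, f i * f (i + 1) * f (i + 3) = 1 := by
    intro i
    induction i with
    | zero => rw [f0, zero_add, zero_add, f1]; exact h
    | succ i ih =>
      have : f (i + 1) * f (i + 1 + 1) * f (i + 1 + 3) = d⁻¹ * (f i * f (i + 1) * f (i + 3)) * d := by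
        rw [fs i, fs (i + 1), show i + 1 + 3 = (i + 3) + 1 from rfl, fs (i + 3)]
        rw [fs i]; group
      rw [this, ih]; group
  have h3' : ∀ i, f (i + 3) = (f i * f (i + 1))⁻¹ := fun i => eq_inv_of_mul_eq_one_right (h3 i)
  have s1 : ∀ i, SC z s (f i) (f (i + 1)) := by
    intro i
    induction i with
    | zero => rw [f0, zero_add, f1]; exact hs
    | succ i ih =>
      have := ih.conj hd
      rwa [← fs, ← fs] at this
  have fz2 : ∀ i, f i * f (i + 1) * z = z * (f i * f (i + 1)) := by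
    intro i; rw [mul_assoc, fz, ← mul_assoc, fz, mul_assoc]
  have s3 : ∀ i, SC z s (f i) (f (i + 3)) := by
    intro i
    rw [h3']
    have := (SC.self (z := z) (f i)).mul_right hz (fz i) (s1 i)
    rw [Bool.false_xor] at this
    exact this.inv_right hz (fz2 i)
  have s2 : ∀ i, SC z s (f (i + 1)) (f (i + 3)) := by
    intro i
    rw [h3']
    have := ((s1 i).symm hz).mul_right hz (fz i) (SC.self (z := z) (f (i + 1)))
    rw [Bool.xor_false] at this
    exact this.inv_right hz (fz2 i)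
  have hs0 : s = false := by
    have a0 : SC z s (f 4) (f 0) := by
      have := s3 4
      rwa [f7 0] at this
    have a1 : SC z s (f 4) (f 1) := (s3 1).symm hz
    have a3 : SC z s (f 4) (f 3) := (s1 3).symm hz
    have b1 := (a0.mul_right hz (fz 0) a1).mul_right hz (fz2 0) a3
    rw [h3 0] at b1
    unfold SC at b1
    rw [mul_one, one_mul] at b1
    cases s with
    | false => rfl
    | true =>
      exfalso
      apply hz1
      have : f 4 = z * f 4 := b1
      exact mul_eq_right.1 this.symm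
  subst hs0
  have c01 : f 0 * f 1 = f 1 * f 0 := by have := s1 0; unfold SC at this; simpa only [zp, _root_.zero_add, _root_.Bool.false_eq_true, ↓ _root_.reduceIte, _root_.one_mul] using this
  have c03 : f 0 * f 3 = f 3 * f 0 := by have := s3 0; unfold SC at this; simpa only [zp, _root_.zero_add, _root_.Bool.false_eq_true, ↓ _root_.reduceIte, _root_.one_mul] using this
  have c13 : f 1 * f 3 = f 3 * f 1 := by have := s2 0; unfold SC at this; simpa only [zp, _root_.zero_add, _root_.Bool.false_eq_true, ↓ _root_.reduceIte, _root_.one_mul] using this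
  have hq' : ∀ i, f i * f i = e * e := by
    intro i
    induction i with
    | zero => rw [f0]
    | succ i ih =>
      rw [fs]
      have : d⁻¹ * f i * d * (d⁻¹ * f i * d) = d⁻¹ * (f i * f i) * d := by group
      rw [this, ih]
      rcases hq with h | h
      · rw [h]; group
      · rw [h, mul_assoc, ← hd]; group
  have hc : f 0 * f 1 * f 3 * (f 0 * f 1 * f 3) = (f 0 * f 0) * (f 1 * f 1) * (f 3 * f 3) := by
    calc f 0 * f 1 * f 3 * (f 0 * f 1 * f 3) = f 0 * f 1 * (f 3 * f 0) * f 1 * f 3 := by group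
      _ = f 0 * f 1 * (f 0 * f 3) * f 1 * f 3 := by rw [c03]
      _ = f 0 * (f 1 * f 0) * (f 3 * f 1) * f 3 := by group
      _ = f 0 * (f 0 * f 1) * (f 1 * f 3) * f 3 := by rw [c01, c13]
      _ = _ := by group
  have h30 := h3 0
  rw [zero_add] at h30
  rw [h30, hq', hq', hq', one_mul] at hc
  refine ⟨?_, ?_⟩
  · rcases hq with h | h
    · exact h
    · rw [h] at hc
      exfalso
      apply hz1
      rw [hz, one_mul] at hc
      exact hc.symm
  · rw [← f1, ← f0]; exact c01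

end signs

section

variable {G : Type*} [Group G] {Q : Subgroup G} {z : G} {a : ℕ → G}

theorem vpd : vp pd = true := by decide +kernel
theorem vpdi : vp pdi = true := by decide +kernel
theorem vpe : vp pe = true := by decide +kernel
theorem vpn : vp pn = true := by decide +kernel
theorem vpi : vp idp = true := by decide +kernel

theorem Sl.pow {c : G} {p : ℕ} (h : Sl a c p) (hp : vp p = true) (k : ℕ) : Sl a (c ^ k) (ppow p k) := by
  induction k with
  | zero => rw [pow_zero]; exact Sl.one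
  | succ k ih => rw [pow_succ]; exact ih.mul h hp

theorem Sl.d_inv {d : G} (h : Sl a d pd) : Sl a d⁻¹ pdi :=
  h.inv (by decide +kernel)

theorem comm_inv {c z : G} (h : c * z = z * c) : c⁻¹ * z = z * c⁻¹ := by
  calc c⁻¹ * z = c⁻¹ * (z * c) * c⁻¹ := by group
    _ = c⁻¹ * (c * z) * c⁻¹ := by rw [h]
    _ = _ := by group

theorem comm_mul {c d z : G} (h : c * z = z * c) (h' : d * z = z * d) : (c * d) * z = z * (c * d) := by
  rw [mul_assoc, h', ← mul_assoc, h, mul_assoc]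

theorem comm_pow {c z : G} (h : c * z = z * c) (k : ℕ) : c ^ k * z = z * c ^ k := by
  induction k with
  | zero => simp
  | succ k ih => rw [pow_succ]; exact comm_mul ih h

theorem ph_comm_z (n : Nine z a) (k : ℕ) : ph z a k * z = z * ph z a k := by
  rw [ph]
  have h1 := (rels n).prd_comm (le_refl 8) (k % 256)
  rw [mul_assoc, h1, ← mul_assoc, ← mul_assoc]
  congr 1
  cases k.testBit 8 <;> simp [zp]

/-- Two elements of `C(z)` inducing the same permutation without signs differ by `z`. -/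
theorem triv [Finite G] (X : Ctx Q z a) {c : G} (hc : c * z = z * c) (h : Sl a c idp) : c = 1 ∨ c = z := by
  have hk : ∀ x ∈ Q, c * x = x * c := by
    intro x hx
    obtain ⟨k, hk, rfl⟩ := exists_ph X.nine X.large.z_mem X.mem X.card hx
    have h1 := apk_spec X.nine hc (p := idp) (by decide +kernel) (fun i hi => h i (by omega)) k hk
    have h2 : ∀ k < 512, apk idp k 8 = k := by decide +kernel
    rw [h2 k hk] at h1
    calc c * ph z a k = (c * ph z a k * c⁻¹) * c := by group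
      _ = _ := by rw [h1]
  exact X.large.cent c (X.large.self c hc hk) hk

theorem eq_or [Finite G] (X : Ctx Q z a) {c c' : G} {p q : ℕ} (hc : c * z = z * c) (hc' : c' * z = z * c')
    (h : Sl a c p) (h' : Sl a c' p) (hp : vp p = true) (hq : ∀ i < 9, gt q i < 9 ∧ gt p (gt q i) = i)
    (hq' : vp q = true) : c' = c ∨ c' = z * c := by
  have h1 : Sl a (c⁻¹ * c') idp := by
    refine ((h.inv hq).mul h' hp).congr fun i hi => ?_
    rw [gt_cp _ _ hi, gt_idp hi]
    have h2 := hq (gt p i) (vp_lt hp hi)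
    exact vp_inj hp (vp_lt hq' (vp_lt hp hi)) hi h2.2
  rcases triv X (comm_mul (comm_inv hc) hc') h1 with h2 | h2
  · left
    exact (inv_mul_eq_one.1 h2).symm
  · right
    rw [← hc, ← h2]; group

theorem exists_d [Finite G] (X : Ctx Q z a) {c : G} (hc : c * z = z * c) (h : Act z a c pd) :
    ∃ d, d * z = z * d ∧ d ^ 7 = 1 ∧ Sl a d pd := by
  obtain ⟨k, -, hk⟩ := exists_sl X.nine hc vpd h
  set d := ph z a k * c with hd
  have hdz : d * z = z * d := comm_mul (ph_comm_z X.nine k) hc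
  have h7 : Sl a (d ^ 7) idp := (Sl.pow hk vpd 7).congr (by decide +kernel)
  have hzz := X.nine.zz
  rcases triv X (comm_pow hdz 7) h7 with h1 | h1
  · exact ⟨d, hdz, h1, hk⟩
  · refine ⟨z * d, ?_, ?_, ?_⟩
    · exact comm_mul rfl hdz
    · have hcomm : Commute z d := hdz.symm
      rw [hcomm.mul_pow, h1, show (7 : ℕ) = 2 + 2 + 2 + 1 from rfl, pow_add, pow_add, pow_add, pow_one, pow_two, hzz]
      simp [hzz]
    · intro i hi
      rw [← hk i hi, mul_inv_rev]
      calc z * d * a i * (d⁻¹ * z⁻¹) = z * (d * a i * d⁻¹) * z⁻¹ := by group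
        _ = d * a i * d⁻¹ := by
          rw [hk i hi, ← X.nine.comm _ (vp_lt vpd hi)]; group

theorem Sl.z_mul (n : Nine z a) {c : G} {p : ℕ} (hp : vp p = true) (h : Sl a c p) : Sl a (z * c) p := by
  intro i hi
  rw [mul_inv_rev]
  calc z * c * a i * (c⁻¹ * z⁻¹) = z * (c * a i * c⁻¹) * z⁻¹ := by group
    _ = a (gt p i) := by
      rw [h i hi, ← n.comm _ (vp_lt hp hi)]; group

/-- the permutation of a conjugate -/
theorem Sl.conj_d {c d : G} {p : ℕ} (h : Sl a c p) (hp : vp p = true) (hd : Sl a d pd) (k : ℕ)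
    (hk : vp (ppow pd k) = true) :
    Sl a ((d ^ k)⁻¹ * c * d ^ k) (cp (cp (ppow pdi k) p) (ppow pd k)) := by
  rw [← inv_pow]
  exact ((Sl.pow (Sl.d_inv hd) vpdi k).mul h hp).mul (Sl.pow hd vpd k) hk

theorem exists_e [Finite G] (X : Ctx Q z a) {c d : G} (hc : c * z = z * c) (h : Act z a c pe)
    (hdz : d * z = z * d) (hd7 : d ^ 7 = 1) (hd : Sl a d pd) :
    ∃ e, e * z = z * e ∧ Sl a e pe ∧ e * e = 1 ∧ e * (d⁻¹ * e * d) * ((d ^ 3)⁻¹ * e * d ^ 3) = 1 ∧
      e * (d⁻¹ * e * d) = (d⁻¹ * e * d) * e := by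
  obtain ⟨k, -, hk⟩ := exists_sl X.nine hc vpe h
  set e' := ph z a k * c with he'
  have hez' : e' * z = z * e' := comm_mul (ph_comm_z X.nine k) hc
  have hzz := X.nine.zz
  -- permutation of the product
  have hprod : ∀ e : G, Sl a e pe → Sl a (e * (d⁻¹ * e * d) * ((d ^ 3)⁻¹ * e * d ^ 3)) idp := by
    intro e he
    have h1 : Sl a (d⁻¹ * e * d) (cp (cp pdi pe) pd) :=
      ((Sl.d_inv hd).mul he vpe).mul hd vpd
    have h3 : Sl a ((d ^ 3)⁻¹ * e * d ^ 3) (cp (cp (ppow pdi 3) pe) (ppow pd 3)) := by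
      rw [← inv_pow]
      exact ((Sl.pow (Sl.d_inv hd) vpdi 3).mul he vpe).mul (Sl.pow hd vpd 3) (by decide +kernel)
    exact ((he.mul h1 (by decide +kernel)).mul h3 (by decide +kernel)).congr (by decide +kernel)
  have hcz : ∀ e : G, e * z = z * e → (e * (d⁻¹ * e * d) * ((d ^ 3)⁻¹ * e * d ^ 3)) * z =
      z * (e * (d⁻¹ * e * d) * ((d ^ 3)⁻¹ * e * d ^ 3)) := fun e he =>
    comm_mul (comm_mul he (comm_mul (comm_mul (comm_inv hdz) he) hdz))
      (comm_mul (comm_mul (comm_inv (comm_pow hdz 3)) he) (comm_pow hdz 3))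
  -- choose the sign
  obtain ⟨e, hez, he, h013⟩ : ∃ e, e * z = z * e ∧ Sl a e pe ∧
      e * (d⁻¹ * e * d) * ((d ^ 3)⁻¹ * e * d ^ 3) = 1 := by
    rcases triv X (hcz e' hez') (hprod e' hk) with h1 | h1
    · exact ⟨e', hez', hk, h1⟩
    · refine ⟨z * e', comm_mul rfl hez', Sl.z_mul X.nine vpe hk, ?_⟩
      have hdi := comm_inv hdz
      have hd3 := comm_pow hdz 3
      have hdi3 := comm_inv hd3
      calc z * e' * (d⁻¹ * (z * e') * d) * ((d ^ 3)⁻¹ * (z * e') * d ^ 3)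
          = z * e' * ((d⁻¹ * z) * e' * d) * (((d ^ 3)⁻¹ * z) * e' * d ^ 3) := by group
        _ = z * (e' * z) * (d⁻¹ * e' * d * z) * ((d ^ 3)⁻¹ * e' * d ^ 3) := by
            rw [hdi, hdi3]; group
        _ = z * (z * e') * (z * (d⁻¹ * e' * d)) * ((d ^ 3)⁻¹ * e' * d ^ 3) := by
            rw [hez', comm_mul (comm_mul hdi hez') hdz]
        _ = (z * z) * (e' * z) * (d⁻¹ * e' * d) * ((d ^ 3)⁻¹ * e' * d ^ 3) := by group
        _ = z * (e' * (d⁻¹ * e' * d) * ((d ^ 3)⁻¹ * e' * d ^ 3)) := by rw [hzz, hez']; group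
        _ = 1 := by rw [h1, hzz]
  have hsc : ∃ s, SC z s e (d⁻¹ * e * d) := by
    have h1 : Sl a (d⁻¹ * e * d) (cp (cp pdi pe) pd) := ((Sl.d_inv hd).mul he vpe).mul hd vpd
    have h2 : Sl a (e * (d⁻¹ * e * d)) (cp pe (cp (cp pdi pe) pd)) := he.mul h1 (by decide +kernel)
    have h3 : Sl a ((d⁻¹ * e * d) * e) (cp pe (cp (cp pdi pe) pd)) :=
      (h1.mul he vpe).congr (by decide +kernel)
    have hz1 : (d⁻¹ * e * d) * z = z * (d⁻¹ * e * d) := comm_mul (comm_mul (comm_inv hdz) hez) hdz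
    rcases eq_or X (q := cp pe (cp (cp pdi pe) pd)) (comm_mul hz1 hez) (comm_mul hez hz1) h3 h2
      (by decide +kernel) (by decide +kernel) (by decide +kernel) with h4 | h4
    · exact ⟨false, by unfold SC; rw [h4]; simp [zp]⟩
    · exact ⟨true, h4⟩
  have hee : e * e = 1 ∨ e * e = z :=
    triv X (comm_mul hez hez) ((he.mul he vpe).congr (by decide +kernel))
  obtain ⟨h1, h2⟩ := translations hzz X.nine.z_ne hdz hez hd7 h013 hsc hee
  exact ⟨e, hez, he, h1, h013, h2⟩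

theorem exists_n [Finite G] (X : Ctx Q z a) {c d e : G} (hc : c * z = z * c) (h : Act z a c pn)
    (hdz : d * z = z * d) (hd7 : d ^ 7 = 1) (hd : Sl a d pd) (hez : e * z = z * e) (he : Sl a e pe)
    (hee : e * e = 1) :
    ∃ n, n * z = z * n ∧ Sl a n pn ∧ n * n = 1 ∧ (n * d) * (n * d) = 1 ∧ (n * e) ^ 3 = 1 := by
  obtain ⟨k, -, hk⟩ := exists_sl X.nine hc vpn h
  set n' := ph z a k * c with hn'
  have hnz' : n' * z = z * n' := comm_mul (ph_comm_z X.nine k) hc
  have hzz := X.nine.zz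
  obtain ⟨n, hnz, hn, hne⟩ : ∃ n, n * z = z * n ∧ Sl a n pn ∧ (n * e) ^ 3 = 1 := by
    have h3 : Sl a ((n' * e) ^ 3) idp :=
      (Sl.pow (hk.mul he vpe) (by decide +kernel) 3).congr (by decide +kernel)
    rcases triv X (comm_pow (comm_mul hnz' hez) 3) h3 with h1 | h1
    · exact ⟨n', hnz', hk, h1⟩
    · refine ⟨z * n', comm_mul rfl hnz', Sl.z_mul X.nine vpn hk, ?_⟩
      have hcomm : Commute z (n' * e) := (comm_mul hnz' hez).symm
      rw [mul_assoc, hcomm.mul_pow, h1, show (3 : ℕ) = 2 + 1 from rfl, pow_add, pow_two, pow_one, hzz, one_mul, hzz]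
  have hnn : n * n = 1 ∨ n * n = z :=
    triv X (comm_mul hnz hnz) ((hn.mul hn vpn).congr (by decide +kernel))
  have hnn1 : n * n = 1 := by
    have h1 : n * e * n * (n * e)⁻¹ = e * (n * n)⁻¹ := by
      have h2 : (n * e) * (n * e) * (n * e) = 1 := by rw [← hne, pow_succ, pow_two]
      have h3 : (n * e) * (n * e) = (n * e)⁻¹ := eq_inv_of_mul_eq_one_left h2
      have hei : e⁻¹ = e := inv_eq_of_mul_eq_one_left hee
      calc n * e * n * (n * e)⁻¹ = (n * e) * (n * e⁻¹) * n⁻¹ := by group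
        _ = (n * e) * (n * e) * n⁻¹ := by rw [hei]
        _ = (n * e)⁻¹ * n⁻¹ := by rw [h3]
        _ = e⁻¹ * (n * n)⁻¹ := by group
        _ = _ := by rw [hei]
    have hcen : ∀ x : G, x * z = z * x → x * (n * n) = (n * n) * x := by
      intro x hx
      rcases hnn with h | h
      · rw [h]; simp
      · rw [h]; exact hx
    have h2 : (n * e * n * (n * e)⁻¹) * (n * e * n * (n * e)⁻¹) = n * n := by
      calc (n * e * n * (n * e)⁻¹) * (n * e * n * (n * e)⁻¹) = (n * e) * (n * n) * (n * e)⁻¹ := by group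
        _ = (n * n) * ((n * e) * (n * e)⁻¹) := by rw [hcen _ (comm_mul hnz hez)]; group
        _ = n * n := by group
    rw [h1] at h2
    have h3 : (n * n)⁻¹ * (n * n)⁻¹ = 1 := by
      rcases hnn with h | h
      · rw [h]; group
      · rw [h, ← mul_inv_rev, hzz]; group
    have h4 : e * (n * n)⁻¹ = (n * n)⁻¹ * e := by
      have := hcen e hez
      calc e * (n * n)⁻¹ = (n * n)⁻¹ * ((n * n) * e) * (n * n)⁻¹ := by group
        _ = (n * n)⁻¹ * (e * (n * n)) * (n * n)⁻¹ := by rw [this]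
        _ = _ := by group
    rw [← h2]
    calc e * (n * n)⁻¹ * (e * (n * n)⁻¹) = e * ((n * n)⁻¹ * e) * (n * n)⁻¹ := by group
      _ = e * (e * (n * n)⁻¹) * (n * n)⁻¹ := by rw [h4]
      _ = (e * e) * ((n * n)⁻¹ * (n * n)⁻¹) := by group
      _ = 1 := by rw [hee, h3, one_mul]
  refine ⟨n, hnz, hn, hnn1, ?_, hne⟩
  have h1 : (n * d) * (n * d) = 1 ∨ (n * d) * (n * d) = z := by
    refine triv X (comm_mul (comm_mul hnz hdz) (comm_mul hnz hdz)) ?_
    exact ((hn.mul hd vpd).mul (hn.mul hd vpd) (by decide +kernel)).congr (by decide +kernel)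
  rcases h1 with h1 | h1
  · exact h1
  · exfalso
    apply X.nine.z_ne
    have hni : n⁻¹ = n := inv_eq_of_mul_eq_one_left hnn1
    have h2 : n * d * n⁻¹ = z * d⁻¹ := by
      rw [hni, ← h1]; group
    have h3 : (n * d * n⁻¹) ^ 7 = 1 := by
      have : (n * d * n⁻¹) ^ 7 = n * d ^ 7 * n⁻¹ := conj_pow
      rw [this, hd7]; group
    have hcomm : Commute z d⁻¹ := (comm_inv hdz).symm
    rw [h2, hcomm.mul_pow, inv_pow, hd7, inv_one, mul_one, show (7 : ℕ) = 2 + 2 + 2 + 1 from rfl, pow_add,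
      pow_add, pow_add, pow_one, pow_two, hzz] at h3
    simpa using h3

/-- `L₂(8)` with its generators. -/
structure _root_.Cfsg.Agent.TrialityTwo.Gens {G : Type*} [Group G] (z : G) (a : ℕ → G) (d e n : G) : Prop where
  dz : d * z = z * d
  ez : e * z = z * e
  nz : n * z = z * n
  d_sl : Sl a d pd
  e_sl : Sl a e pe
  n_sl : Sl a n pn
  rel : RelL d e n

theorem exists_gens [Finite G] (X : Ctx Q z a) {c₁ c₂ c₃ : G} (h₁ : c₁ * z = z * c₁) (h₁' : Act z a c₁ pd)
    (h₂ : c₂ * z = z * c₂) (h₂' : Act z a c₂ pe) (h₃ : c₃ * z = z * c₃) (h₃' : Act z a c₃ pn) :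
    ∃ d e n, Gens z a d e n := by
  obtain ⟨d, hdz, hd7, hd⟩ := exists_d X h₁ h₁'
  obtain ⟨e, hez, he, hee, h013, hcomm⟩ := exists_e X h₂ h₂' hdz hd7 hd
  obtain ⟨n, hnz, hn, hnn, hnd, hne⟩ := exists_n X h₃ h₃' hdz hd7 hd hez he hee
  exact ⟨d, e, n, hdz, hez, hnz, hd, he, hn, ⟨hd7, hee, hnn, h013, hcomm, hnd, hne⟩⟩

end

end Cfsg.Agent.TrialityTwo.Lift
end

-- part: TrialityTwo/Lab
section
/-!
# Labellings of the nine points (helper814)

`Lab Q z b`: the nine points are labelled such that the translations (with respect to the structure of `F₈` on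
the labels `1, …, 8`: label `1` is `0`, label `2 + i` is `μ ^ i`, `μ ^ 3 = μ + 1`) are induced by elements of
`C(z)`, and every involution of `C(z)/Q` fixing the point `b 0` is a translation.
-/

set_option autoImplicit false

namespace Cfsg.Agent.TrialityTwo.Lab

open Cfsg.Agent.LargeExtra.Model Cfsg.Agent.LargeExtra.Pres Cfsg.Agent.TrialityTwo.Nine
open Cfsg.Agent.TrialityTwo.Perm Cfsg.Agent.TrialityTwo.Lift

/-- `p` is the code of an injective map of `{0, …, 8}` -/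
def wp (p : ℕ) : Bool :=
  allN (fun i => Nat.blt (gt p i) 9 && allN (fun j => Nat.beq i j || !Nat.beq (gt p i) (gt p j)) 9) 9

theorem wp_lt {p : ℕ} (h : wp p = true) {i : ℕ} (hi : i < 9) : gt p i < 9 := by
  unfold wp at h
  rw [allN_iff] at h
  have := h i hi
  rw [Bool.and_eq_true] at this
  simpa using this.1

theorem wp_inj {p : ℕ} (h : wp p = true) {i j : ℕ} (hi : i < 9) (hj : j < 9) (hij : gt p i = gt p j) :
    i = j := by
  unfold wp at h
  rw [allN_iff] at h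
  have := h i hi
  rw [Bool.and_eq_true, allN_iff] at this
  have h2 := this.2 j hj
  rw [Bool.or_eq_true] at h2
  rcases h2 with h2 | h2
  · simpa using h2
  · rw [hij] at h2
    simp at h2

theorem wp_of {p : ℕ} (h1 : ∀ i < 9, gt p i < 9) (h2 : ∀ i < 9, ∀ j < 9, gt p i = gt p j → i = j) :
    wp p = true := by
  unfold wp
  rw [allN_iff]
  intro i hi
  rw [Bool.and_eq_true, allN_iff]
  refine ⟨by simpa using h1 i hi, fun j hj => ?_⟩
  rw [Bool.or_eq_true]
  by_cases h : gt p i = gt p j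
  · left; simpa using h2 i hi j hj h
  · right
    have h3 : Nat.beq (gt p i) (gt p j) = false := by
      rw [Bool.eq_false_iff]
      exact fun h4 => h (Nat.eq_of_beq_eq_true h4)
    rw [h3]; rfl

theorem wp_of_vp {p : ℕ} (h : vp p = true) : wp p = true :=
  wp_of (fun _ hi => vp_lt h hi) (fun _ hi _ hj => vp_inj h hi hj)

/-- the translation taking the label `1` (zero) to the label `i` -/
def tri : ℕ → ℕ
  | 2 => 0x467385120
  | 3 => 0x784261530
  | 4 => 0x253716840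
  | 5 => 0x648172350
  | 6 => 0x521834760
  | 7 => 0x312458670
  | 8 => 0x135627480
  | _ => 0x876543210

/-- The labelling. -/
structure _root_.Cfsg.Agent.TrialityTwo.Lab {G : Type*} [Group G] (Q : Subgroup G) (z : G) (b : ℕ → G) :
    Prop where
  ctx : Ctx Q z b
  /-- `C(z)` permutes the nine points up to sign -/
  act : ∀ c, c * z = z * c → ∃ p, wp p = true ∧ Act z b c p
  /-- transitively -/
  trans : ∀ i < 9, ∃ c p, c * z = z * c ∧ wp p = true ∧ Act z b c p ∧ gt p 0 = i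
  /-- the translations -/
  tr : ∀ i, 1 ≤ i → i < 9 → ∃ c, c * z = z * c ∧ Act z b c (tri i)
  /-- involutions fixing the point `0` are translations -/
  inv : ∀ c p, c * z = z * c → wp p = true → Act z b c p → gt p 0 = 0 → (∀ i < 9, gt p (gt p i) = i) →
    ∃ i, 1 ≤ i ∧ i < 9 ∧ ∀ j < 9, gt p j = gt (tri i) j

end Cfsg.Agent.TrialityTwo.Lab
end

private theorem dce_688389c5b947 : _root_.True := by
  try have : _root_.True := by simp only [_root_.Cfsg.Agent.Co2Type.Quad.Large.V.congr_simp]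
  try have : _root_.True := by simp only [_root_.Cfsg.Agent.TrialityTwo.Nine.ph.eq_1]
  try have : _root_.True := by simp only [_root_.Cfsg.Agent.TypeD4Two.NineV.Cfg.CX.eq_1]
  try have : _root_.True := by simp only [_root_.Cfsg.Agent.TypeD4Two.NinePair.Qf.eq_1]
  exact _root_.True.intro
end
end
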